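import Cfsg.Agent.Lib.Fi23P.Mult
import Cfsg.Agent.Lib.Fi24P.Simple

/-!
# Central extensions of the index two subgroup with the first generator adjoined

The subgroup over the smaller Fischer group splits, and the splitting commutes with the
chosen involution.
-/

set_option autoImplicit false
set_option maxRecDepth 100000

namespace CfsgLib.Fi24P.Triple

open CfsgLib.PresCert Cfsg.Spor
open scoped commutatorElement

/-- The groups considered: a map onto the presented group whose kernel is central in the perfect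
preimage of the index two subgroup, with an involution over the first generator. -/
structure Ext (M : Type) [Group M] where
  proj : M →* Cfsg.Spor.Fi24
  surj : Function.Surjective proj
  s : M
  map_s : proj s = eltL
  sq_s : s * s = 1
  central : ∀ k d : M, proj k = 1 → signHom (proj d) = 1 → d * k = k * d
  perfect : (signHom.comp proj).ker ≤ ⁅(signHom.comp proj).ker, (signHom.comp proj).ker⁆

theorem sign_eltL : signHom eltL = -1 := signHom_gen 0

theorem fi23_perfect : commutator Cfsg.Spor.Fi23 = ⊤ := by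
  haveI := Fi23P.simple
  refine ((inferInstance : (commutator Cfsg.Spor.Fi23).Normal).eq_bot_or_eq_top).resolve_left
    fun h => ?_
  have hc : ⁅Fi23P.fiGen 0, Fi23P.fiGen 1⁆ = 1 := by
    rw [← Subgroup.mem_bot, ← h, commutator_def]
    exact Subgroup.commutator_mem_commutator (Subgroup.mem_top _) (Subgroup.mem_top _)
  have hc' := congrArg psi (commutatorElement_eq_one_iff_mul_comm.1 hc)
  rw [map_mul, map_mul, psi_gen (by norm_num), psi_gen (by norm_num)] at hc'
  have e : act ftGen [0, 3, 0, 2] = act ftGen [0, 2, 0, 3] := by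
    simpa [smallGen, act_cons, act_nil, mul_assoc] using hc'
  have e' := congrArg (fun m => ((phi m ⟨7, by rw [tab_n]; norm_num⟩ : Fin tab.n) : ℕ)) e
  rw [realised.act_apply (by decide), realised.act_apply (by decide)] at e'
  have hne : Nat.beq (tab.walk 7 [0, 3, 0, 2]) (tab.walk 7 [0, 2, 0, 3]) = false := by decide +kernel
  rw [Nat.beq_eq.mpr e'] at hne
  exact Bool.noConfusion hne

/-- A product of two lifts of commuting elements over a central kernel. -/
theorem commutator_of_center {M : Type*} [Group M] {x y k l : M}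
    (hk : ∀ m ∈ ({x, y, k, l, x⁻¹, y⁻¹, k⁻¹, l⁻¹} : Set M), m * k = k * m)
    (hl : ∀ m ∈ ({x, y, k, l, x⁻¹, y⁻¹, k⁻¹, l⁻¹} : Set M), m * l = l * m) :
    ⁅k * x, l * y⁆ = ⁅x, y⁆ := by
  rw [commutatorElement_def, commutatorElement_def]
  calc k * x * (l * y) * (k * x)⁻¹ * (l * y)⁻¹
      = k * ((x * l) * y * x⁻¹) * k⁻¹ * (y⁻¹ * l⁻¹) := by group
    _ = k * ((l * x) * y * x⁻¹) * k⁻¹ * (y⁻¹ * l⁻¹) := by rw [hl x (by simp)]
    _ = k * (l * (x * y * x⁻¹)) * k⁻¹ * (y⁻¹ * l⁻¹) := by group
    _ = (k * l) * x * y * (x⁻¹ * k⁻¹) * (y⁻¹ * l⁻¹) := by group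
    _ = (l * k) * x * y * (x⁻¹ * k⁻¹) * (y⁻¹ * l⁻¹) := by rw [hk l (by simp)]
    _ = l * (k * x) * y * (x⁻¹ * k⁻¹) * (y⁻¹ * l⁻¹) := by group
    _ = l * (x * k) * y * (x⁻¹ * k⁻¹) * (y⁻¹ * l⁻¹) := by rw [hk x (by simp)]
    _ = l * x * (k * y) * (x⁻¹ * k⁻¹) * (y⁻¹ * l⁻¹) := by group
    _ = l * x * (y * k) * (x⁻¹ * k⁻¹) * (y⁻¹ * l⁻¹) := by rw [hk y (by simp)]
    _ = l * x * y * (k * x⁻¹) * k⁻¹ * (y⁻¹ * l⁻¹) := by group
    _ = l * x * y * (x⁻¹ * k) * k⁻¹ * (y⁻¹ * l⁻¹) := by rw [hk x⁻¹ (by simp)]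
    _ = l * (x * y * x⁻¹ * y⁻¹) * l⁻¹ := by group
    _ = x * y * x⁻¹ * y⁻¹ := by
        have : Commute l (x * y * x⁻¹ * y⁻¹) :=
          (((show Commute l x from (hl x (by simp)).symm).mul_right
            (hl y (by simp)).symm).mul_right (hl x⁻¹ (by simp)).symm).mul_right
            (hl y⁻¹ (by simp)).symm
        rw [this.eq, mul_inv_cancel_right]

namespace Ext

variable {M : Type} [Group M] (E : Ext M)

theorem s_inv : E.s⁻¹ = E.s := inv_eq_of_mul_eq_one_right E.sq_s

theorem sign_ker {k : M} (hk : E.proj k = 1) : signHom (E.proj k) = 1 := by rw [hk, map_one]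

theorem ker_comm {k l : M} (hk : E.proj k = 1) (hl : E.proj l = 1) : k * l = l * k :=
  E.central l k hl (E.sign_ker hk)

theorem sign_cases (m : M) : signHom (E.proj m) = 1 ∨ signHom (E.proj (m * E.s)) = 1 := by
  rcases Int.units_eq_one_or (signHom (E.proj m)) with h | h
  · exact Or.inl h
  · refine Or.inr ?_
    rw [map_mul, map_mul, h, E.map_s, sign_eltL]; rfl

theorem conj_inv (k : M) : E.s * k⁻¹ * E.s = (E.s * k * E.s)⁻¹ := by
  rw [mul_inv_rev, mul_inv_rev, E.s_inv, mul_assoc]

theorem map_conj_s {k : M} (hk : E.proj k = 1) : E.proj (E.s * k * E.s) = 1 := by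
  rw [map_mul, map_mul, hk, mul_one, E.map_s, eltL_sq]

/-- The odd elements act on the kernel as the involution does. -/
theorem odd_conj {p k : M} (hk : E.proj k = 1) (hp : signHom (E.proj p) = -1) :
    p * k = E.s * k * E.s * p := by
  have hd : signHom (E.proj (p * E.s)) = 1 := by
    rw [map_mul, map_mul, hp, E.map_s, sign_eltL]; rfl
  have h := E.central _ _ (E.map_conj_s hk) hd
  calc p * k = p * E.s * (E.s * k * E.s) * E.s := by
        simp only [mul_assoc, E.sq_s, mul_one]
        rw [← mul_assoc E.s E.s, E.sq_s, one_mul]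
    _ = E.s * k * E.s * (p * E.s) * E.s := by rw [h]
    _ = E.s * k * E.s * p := by simp only [mul_assoc, E.sq_s, mul_one]

/-- The kernel meets a set on which the projection is injective trivially. -/
theorem eq_of_lifts {f : Cfsg.Spor.Fi23 → M} (hf : ∀ z, E.proj (f z) = psi z) {a b : Cfsg.Spor.Fi23}
    (h : E.proj (f a) = E.proj (f b)) : f a = f b := by
  rw [hf, hf] at h
  rw [psi_injective h]

/-- The preimage of the smaller Fischer group contains a copy commuting with the involution. -/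
theorem exists_phi [Finite M] : ∃ Φ : Cfsg.Spor.Fi23 →* M,
    ∀ z, E.proj (Φ z) = psi z ∧ E.s * Φ z = Φ z * E.s := by
  let P : Subgroup M := psi.range.comap E.proj
  let C : Subgroup M := ⁅P, P⁆
  have hCP : C ≤ P := Subgroup.commutator_le.2 fun a ha b hb => by
    rw [commutatorElement_def]
    exact mul_mem (mul_mem (mul_mem ha hb) (inv_mem ha)) (inv_mem hb)
  have hPsign : ∀ m ∈ P, signHom (E.proj m) = 1 := by
    intro m hm
    obtain ⟨z, hz⟩ := hm
    rw [← hz, psi_sign]
  have hmap : C.map E.proj = psi.range := by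
    rw [Subgroup.map_commutator, Subgroup.map_comap_eq_self_of_surjective E.surj,
      MonoidHom.range_eq_map, ← Subgroup.map_commutator, ← commutator_def, fi23_perfect]
  have hperf : C ≤ ⁅C, C⁆ := Subgroup.commutator_le.2 fun a ha b hb => by
    obtain ⟨x, hx, ex⟩ : E.proj a ∈ C.map E.proj := hmap ▸ ha
    obtain ⟨y, hy, ey⟩ : E.proj b ∈ C.map E.proj := hmap ▸ hb
    have hka : E.proj (a * x⁻¹) = 1 := by rw [map_mul, map_inv, ex, mul_inv_cancel]
    have hlb : E.proj (b * y⁻¹) = 1 := by rw [map_mul, map_inv, ey, mul_inv_cancel]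
    have hall : ∀ m ∈ ({x, y, a * x⁻¹, b * y⁻¹, x⁻¹, y⁻¹, (a * x⁻¹)⁻¹, (b * y⁻¹)⁻¹} : Set M),
        signHom (E.proj m) = 1 := by
      intro m hm
      refine hPsign m ?_
      have hx' := hCP hx
      have hy' := hCP hy
      simp only [Set.mem_insert_iff, Set.mem_singleton_iff] at hm
      rcases hm with rfl | rfl | rfl | rfl | rfl | rfl | rfl | rfl
      exacts [hx', hy', mul_mem ha (inv_mem hx'), mul_mem hb (inv_mem hy'), inv_mem hx', inv_mem hy',
        inv_mem (mul_mem ha (inv_mem hx')), inv_mem (mul_mem hb (inv_mem hy'))]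
    have e := commutator_of_center (fun m hm => E.central _ m hka (hall m hm))
      (fun m hm => E.central _ m hlb (hall m hm))
    rw [inv_mul_cancel_right, inv_mul_cancel_right] at e
    rw [e]
    exact Subgroup.commutator_mem_commutator hx hy
  let η : C →* psi.range := (E.proj.comp C.subtype).codRestrict _ fun c => hCP c.2
  let π : C →* Cfsg.Spor.Fi23 := (MonoidHom.ofInjective psi_injective).symm.toMonoidHom.comp η
  have hπ : ∀ c : C, psi (π c) = E.proj c := fun c => by
    show psi ((MonoidHom.ofInjective psi_injective).symm (η c)) = _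
    exact congrArg Subtype.val ((MonoidHom.ofInjective psi_injective).apply_symm_apply (η c))
  have hs : Function.Surjective π := by
    intro z
    obtain ⟨c, hc, e⟩ : psi z ∈ C.map E.proj := hmap ▸ ⟨z, rfl⟩
    exact ⟨⟨c, hc⟩, psi_injective ((hπ _).trans e)⟩
  have hker : ∀ c : C, π c = 1 → E.proj c = 1 := fun c h => by rw [← hπ, h, map_one]
  have hc : π.ker ≤ Subgroup.center C := fun k hk => Subgroup.mem_center_iff.2 fun d =>
    Subtype.ext (E.central _ _ (hker k hk) (hPsign _ (hCP d.2)))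
  have htop : (commutator C).map C.subtype = ⁅C, C⁆ := by
    rw [commutator_def, Subgroup.map_commutator, ← MonoidHom.range_eq_map, Subgroup.range_subtype]
  have hcomm : π.ker ≤ commutator C := fun k _ => by
    obtain ⟨y, hy, e⟩ := (htop ▸ hperf k.2 : k.1 ∈ (commutator C).map C.subtype)
    rwa [← Subtype.ext (a1 := y) (a2 := k) e]
  have hinj : Function.Injective π :=
    (MonoidHom.ker_eq_bot_iff _).1 (Fi23P.ker_eq_bot hs hc hcomm)
  let e := MulEquiv.ofBijective π ⟨hinj, hs⟩
  refine ⟨C.subtype.comp e.symm.toMonoidHom, fun z => ?_⟩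
  have hpz : ∀ z, E.proj (e.symm z).1 = psi z := fun z => by
    rw [← hπ]; exact congrArg psi (e.apply_symm_apply z)
  refine ⟨hpz z, ?_⟩
  show E.s * (e.symm z).1 = (e.symm z).1 * E.s
  set c := (e.symm z).1 with hcdef
  have hcc : c ∈ C := (e.symm z).2
  have hsP : P.map (MulAut.conj E.s).toMonoidHom ≤ P := by
    rintro _ ⟨p, hp, rfl⟩
    obtain ⟨u, hu⟩ := hp
    refine ⟨u, ?_⟩
    show psi u = E.proj (E.s * p * E.s⁻¹)
    rw [map_mul, map_mul, map_inv, E.map_s, ← hu, psi_comm, mul_inv_cancel_right]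
  have hcs : E.s * c * E.s⁻¹ ∈ C := by
    have h1 : (MulAut.conj E.s).toMonoidHom c ∈ C.map (MulAut.conj E.s).toMonoidHom :=
      Subgroup.mem_map_of_mem _ hcc
    rw [Subgroup.map_commutator] at h1
    exact Subgroup.commutator_mono hsP hsP h1
  have hinjC : (⟨_, hcs⟩ : C) = ⟨c, hcc⟩ := hinj (psi_injective (by
    rw [hπ, hπ]
    show E.proj (E.s * c * E.s⁻¹) = E.proj c
    rw [map_mul, map_mul, map_inv, E.map_s, hpz z, psi_comm, mul_inv_cancel_right]))
  exact mul_inv_eq_iff_eq_mul.1 (congrArg Subtype.val hinjC)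

end Ext

end CfsgLib.Fi24P.Triple
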