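import Cfsg.Agent.Lib.Fi24P.Cover

/-!
# Homomorphisms out of the presented group from relations on numbered generators
-/

set_option autoImplicit false
set_option maxRecDepth 100000

namespace CfsgLib.Fi24P.Triple

open CfsgLib.PresCert Cfsg.Spor

/-- Elements satisfying all relations give a homomorphism. -/
theorem exists_hom {Q : Type*} [Group Q] (q : ℕ → Q) (hsq : ∀ g, g < 12 → q g * q g = 1)
    (hc : ∀ p ∈ commList, q p.1 * q p.2 = q p.2 * q p.1)
    (hb : ∀ p ∈ braidList, q p.1 * q p.2 * q p.1 = q p.2 * q p.1 * q p.2)
    (h9 : act q relNine = 1) (h17 : act q relSeventeen = 1) :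
    ∃ f : Cfsg.Spor.Fi24 →* Q, ∀ g, g < 12 → f (ftGen g) = q g := by
  have hlt : ((commList ++ braidList).all fun p => Nat.blt p.1 12 && Nat.blt p.2 12) = true := by
    decide +kernel
  simp only [List.all_eq_true, Bool.and_eq_true, Nat.blt_eq, List.mem_append] at hlt
  have hshort : ∀ w ∈ relShort, act q w = 1 := by
    intro w hw
    simp only [relShort, List.mem_append, List.mem_map, List.mem_range, List.mem_flatMap,
      List.mem_cons, List.not_mem_nil, or_false] at hw
    rcases hw with (⟨g, hg, rfl⟩ | ⟨⟨g, h⟩, hp, rfl | rfl⟩) | ⟨⟨g, h⟩, hp, rfl | rfl⟩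
    · simpa [act_cons, act_nil] using hsq g hg
    all_goals
      obtain ⟨hg, hh⟩ := hlt (g, h) (by first | exact Or.inl hp | exact Or.inr hp)
      have g2 := hsq g hg
      have h2 := hsq h hh
      simp only [act_cons, act_nil, one_mul]
    · have e : q g * q h = q h * q g := hc _ hp
      calc q h * q g * q h * q g = q g * (q h * q h) * q g := by rw [← e]; simp only [mul_assoc]
        _ = 1 := by rw [h2, mul_one, g2]
    · have e : q g * q h = q h * q g := hc _ hp
      calc q g * q h * q g * q h = q h * (q g * q g) * q h := by rw [e]; simp only [mul_assoc]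
        _ = 1 := by rw [g2, mul_one, h2]
    · have e : q g * q h * q g = q h * q g * q h := hb _ hp
      calc q h * q g * q h * q g * q h * q g = (q g * q h * q g) * (q g * q h * q g) := by
            conv_rhs => arg 1; rw [e]
            simp only [mul_assoc]
        _ = q g * q h * (q g * q g) * q h * q g := by simp only [mul_assoc]
        _ = 1 := by rw [g2, mul_one, mul_assoc (q g) (q h), h2, mul_one, g2]
    · have e : q g * q h * q g = q h * q g * q h := hb _ hp
      calc q g * q h * q g * q h * q g * q h = (q h * q g * q h) * (q h * q g * q h) := by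
            conv_rhs => arg 1; rw [← e]
            simp only [mul_assoc]
        _ = q h * q g * (q h * q h) * q g * q h := by simp only [mul_assoc]
        _ = 1 := by rw [h2, mul_one, mul_assoc (q h) (q g), g2, mul_one, h2]
  have hrels : ∀ w ∈ ftData.rels, act q w = 1 := by
    intro w hw
    have h := List.all_eq_true.1 rels_covered w hw
    simp only [Bool.and_eq_true, Bool.or_eq_true, List.all_eq_true, Nat.blt_eq,
      List.contains_iff_mem] at h
    have one : ∀ v ∈ relData, act q v = 1 := by
      intro v hv
      simp only [relData, List.mem_append, List.mem_cons, List.not_mem_nil, or_false] at hv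
      rcases hv with hv | rfl | rfl
      exacts [hshort v hv, h9, h17]
    rcases h.2 with hm | hm
    · exact one w hm
    · have := one _ hm
      rwa [act_reverse (ng := 12) hsq h.1, inv_eq_one] at this
  have hlift : ∀ L : List (Fi24.Gen × Bool),
      FreeGroup.lift (fun a => q (genIx a)) (FreeGroup.mk L) =
        act q (L.map fun p => genIx p.1).reverse := by
    intro L
    induction L with
    | nil => rw [← FreeGroup.one_eq_mk, map_one]; rfl
    | cons p L ih =>
      obtain ⟨x, b⟩ := p
      rw [show FreeGroup.mk ((x, b) :: L) = FreeGroup.mk [(x, b)] * FreeGroup.mk L from rfl, map_mul,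
        ih, List.map_cons, List.reverse_cons, act_append, act_cons, act_nil, one_mul]
      congr 1
      cases b
      · have e : FreeGroup.mk [(x, false)] = (FreeGroup.of x)⁻¹ := rfl
        rw [e, map_inv, FreeGroup.lift_apply_of]
        exact inv_eq_of_mul_eq_one_right (hsq _ (ft_ok.ix_lt x))
      · exact FreeGroup.lift_apply_of
  refine ⟨PresentedGroup.toGroup (f := fun a => q (genIx a)) fun r hr => ?_, fun g hg => ?_⟩
  · rw [← FreeGroup.mk_toWord (x := r), hlift]
    exact hrels _ (List.mem_map.2 ⟨r, CoxData.relList_mem.2 hr, rfl⟩)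
  · show PresentedGroup.toGroup _ (PresentedGroup.of _) = _
    rw [PresentedGroup.toGroup.of]
    exact congrArg q (ft_ok.ix_at g hg)

end CfsgLib.Fi24P.Triple
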