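import Cfsg.Agent.Lib.Fi24P.Triple.Trace
import Cfsg.Agent.Lib.Fi24P.Triple.Hom
import Mathlib.GroupTheory.SemidirectProduct
import Cfsg.Prelude.Def_KGroupFacts

/-!
# Stem extensions of the index two subgroup have kernels of order at most three
-/

set_option autoImplicit false
set_option maxRecDepth 100000

namespace CfsgLib.Fi24P.Triple

open CfsgLib.PresCert Cfsg.Spor
open scoped commutatorElement

namespace Lifted

variable {M : Type} [Group M] (L : Lifted M)

theorem ker_le_zpowers : L.proj.ker ≤ Subgroup.zpowers L.zVal := by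
  obtain ⟨-, hzi⟩ := L.zVal_spec
  have hz := L.zVal_proj
  let N : Subgroup M := Subgroup.zpowers L.zVal
  haveI hN : N.Normal := ⟨fun a ha g => by
    obtain ⟨n, rfl⟩ := Subgroup.mem_zpowers_iff.1 ha
    rw [← conj_zpow]
    refine Subgroup.zpow_mem _ ?_ n
    rcases Int.units_eq_one_or (signHom (L.proj g)) with h | h
    · rw [L.central _ g hz h, mul_inv_cancel_right]
      exact Subgroup.mem_zpowers _
    · rw [L.odd_conj hz h, hzi, mul_inv_cancel_right]
      exact inv_mem (Subgroup.mem_zpowers _)⟩
  let q : ℕ → M ⧸ N := fun g => QuotientGroup.mk' N (L.x g)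
  have hq : ∀ w, act q w = QuotientGroup.mk' N (act L.x w) := by
    intro w
    induction w with
    | nil => simp [act_nil]
    | cons g w ih => rw [act_cons, act_cons, map_mul, ih]
  have h9 : act L.x relNine = 1 := by
    have hr : hLetters relNine = true := by decide +kernel
    rw [L.act_x hr]
    exact L.rel_of_image hr (relData_act (by simp [relData]))
  have h17 : act L.x relSeventeen ∈ N := by
    have hlt : ∀ g ∈ relSeventeen, g < 12 := relData_lt (by simp [relData])
    have e : L.zVal = (act L.x relSeventeen)⁻¹ := act_reverse (fun a ha => L.x_sq ha) hlt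
    rw [← inv_inv (act L.x relSeventeen), ← e]
    exact inv_mem (Subgroup.mem_zpowers _)
  obtain ⟨f, hf⟩ := exists_hom q
    (fun g hg => by simp only [q, ← map_mul, L.x_sq hg, map_one])
    (fun p hp => by simp only [q, ← map_mul]; rw [L.x_comm hp])
    (fun p hp => by simp only [q, ← map_mul]; rw [L.x_braid hp])
    (by rw [hq, h9, map_one]) (by rw [hq]; exact (QuotientGroup.eq_one_iff _).2 h17)
  let G0 : Subgroup M := Subgroup.closure {m | ∃ g < 12, m = L.x g}
  have hG0 : ∀ m ∈ G0, f (L.proj m) = QuotientGroup.mk' N m := by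
    intro m hm
    induction hm using Subgroup.closure_induction with
    | mem t ht =>
      obtain ⟨g, hg, rfl⟩ := ht
      rw [L.x_map hg, hf g hg]
    | one => simp
    | mul a b _ _ ha hb => rw [map_mul, map_mul, map_mul, ha, hb]
    | inv a _ ha => rw [map_inv, map_inv, map_inv, ha]
  have hmap : ∀ m : Cfsg.Spor.Fi24, ∃ a ∈ G0, L.proj a = m := by
    intro m
    have hm : m ∈ genGrp ((List.range 12).map fun g => [g]) ftGen := by
      rw [closure_all]; exact Subgroup.mem_top m
    induction hm using Subgroup.closure_induction with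
    | mem t ht =>
      obtain ⟨w, hw, rfl⟩ := ht
      obtain ⟨g, hg, rfl⟩ := List.mem_map.1 hw
      rw [List.mem_range] at hg
      exact ⟨L.x g, Subgroup.subset_closure ⟨g, hg, rfl⟩, by
        rw [L.x_map hg, act_cons, act_nil, one_mul]⟩
    | one => exact ⟨1, one_mem _, map_one _⟩
    | mul a b _ _ ha hb =>
      obtain ⟨a', ha', rfl⟩ := ha
      obtain ⟨b', hb', rfl⟩ := hb
      exact ⟨a' * b', mul_mem ha' hb', map_mul _ _ _⟩
    | inv a _ ha =>
      obtain ⟨a', ha', rfl⟩ := ha
      exact ⟨a'⁻¹, inv_mem ha', map_inv _ _⟩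
  set D := (signHom.comp L.proj).ker with hD
  have hDsign : ∀ m, m ∈ D ↔ signHom (L.proj m) = 1 := fun _ => Iff.rfl
  have hDle : D ≤ G0 := by
    refine L.perfect.trans (Subgroup.commutator_le.2 fun a ha b hb => ?_)
    obtain ⟨x, hx, ex⟩ := hmap (L.proj a)
    obtain ⟨y, hy, ey⟩ := hmap (L.proj b)
    have hka : L.proj (a * x⁻¹) = 1 := by rw [map_mul, map_inv, ex, mul_inv_cancel]
    have hlb : L.proj (b * y⁻¹) = 1 := by rw [map_mul, map_inv, ey, mul_inv_cancel]
    have hxD : x ∈ D := by rw [hDsign, ex]; exact ha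
    have hyD : y ∈ D := by rw [hDsign, ey]; exact hb
    have hall : ∀ m ∈ ({x, y, a * x⁻¹, b * y⁻¹, x⁻¹, y⁻¹, (a * x⁻¹)⁻¹, (b * y⁻¹)⁻¹} : Set M),
        signHom (L.proj m) = 1 := by
      intro m hm
      refine (hDsign m).1 ?_
      simp only [Set.mem_insert_iff, Set.mem_singleton_iff] at hm
      rcases hm with rfl | rfl | rfl | rfl | rfl | rfl | rfl | rfl
      exacts [hxD, hyD, mul_mem ha (inv_mem hxD), mul_mem hb (inv_mem hyD), inv_mem hxD, inv_mem hyD,
        inv_mem (mul_mem ha (inv_mem hxD)), inv_mem (mul_mem hb (inv_mem hyD))]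
    have e := commutator_of_center (fun m hm => L.central _ m hka (hall m hm))
      (fun m hm => L.central _ m hlb (hall m hm))
    rw [inv_mul_cancel_right, inv_mul_cancel_right] at e
    rw [e, commutatorElement_def]
    exact mul_mem (mul_mem (mul_mem hx hy) (inv_mem hx)) (inv_mem hy)
  intro m hm
  have h := hG0 m (hDle (L.sign_ker hm))
  rw [MonoidHom.mem_ker.1 hm, map_one] at h
  exact (QuotientGroup.eq_one_iff m).1 h.symm

theorem ker_card : Nat.card L.proj.ker ≤ 3 := by
  obtain ⟨h3, -⟩ := L.zVal_spec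
  haveI : Finite (Subgroup.zpowers L.zVal) :=
    Nat.finite_of_card_ne_zero (by
      rw [Nat.card_zpowers]
      exact (IsOfFinOrder.orderOf_pos (isOfFinOrder_iff_pow_eq_one.2 ⟨3, by norm_num, h3⟩)).ne')
  refine (Subgroup.card_le_of_le L.ker_le_zpowers).trans ?_
  rw [Nat.card_zpowers]
  exact Nat.le_of_dvd (by norm_num) (orderOf_dvd_of_pow_eq_one h3)

end Lifted

/-- A finite extension has a kernel of order at most three. -/
theorem Ext.ker_card {M : Type} [Group M] [Finite M] (E : Ext M) : Nat.card E.proj.ker ≤ 3 := by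
  obtain ⟨Φ, hΦ⟩ := E.exists_phi
  let F : Split M := { E with Φ := Φ, map_Φ := fun z => (hΦ z).1, comm_s := fun z => (hΦ z).2 }
  obtain ⟨k, h1, h2, h3, h4, h5⟩ := F.exists_k
  let L : Lifted M := { F with k := k, map_k := h1, sq_k := h2, comm_k := h3, cube_two := h4, cube_zero := h5 }
  exact L.ker_card

/-- Conjugation by the first generator on the index two subgroup. -/
noncomputable def outerL : MulAut comG :=
  MulAut.conjNormal eltL

theorem outerL_coe (d : comG) : ((outerL d : comG) : Cfsg.Spor.Fi24) = eltL * d * eltL := by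
  rw [outerL, MulAut.conjNormal_apply, inv_eq_of_mul_eq_one_right eltL_sq]

/-- The kernel of a finite stem extension of the index two subgroup has order at most three. -/
theorem stem_ker_card {E : Type} [Group E] [Finite E] (σ : E →* comG)
    (hσ : Cfsg.IsStemExtension σ) : Nat.card σ.ker ≤ 3 := by
  let Q : Subgroup (E × E) :=
    { carrier := {p | σ p.2 = outerL (σ p.1)}
      one_mem' := by simp
      mul_mem' := fun {a b} ha hb => by
        simp [Set.mem_setOf_eq.mp ha, Set.mem_setOf_eq.mp hb]
      inv_mem' := fun {a} ha => by simp [Set.mem_setOf_eq.mp ha] }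
  let D : Subgroup (E × E) := ⁅Q, Q⁆
  have hout : ∀ d, outerL (outerL d) = d := fun d => Subtype.ext (by
    rw [outerL_coe, outerL_coe, ← mul_assoc, ← mul_assoc, eltL_sq, one_mul, mul_assoc, eltL_sq,
      mul_one])
  have hDQ : D ≤ Q := Subgroup.commutator_le.2 fun a ha b hb => by
    rw [commutatorElement_def]; exact mul_mem (mul_mem (mul_mem ha hb) (inv_mem ha)) (inv_mem hb)
  have hperfG : commutator comG = ⊤ := by
    haveI := com_simple
    refine ((inferInstance : (commutator comG).Normal).eq_bot_or_eq_top).resolve_left fun h => ?_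
    have hab : ∀ a b : comG, a * b = b * a := fun a b => by
      rw [← commutatorElement_eq_one_iff_mul_comm, ← Subgroup.mem_bot, ← h, commutator_def]
      exact Subgroup.commutator_mem_commutator (Subgroup.mem_top _) (Subgroup.mem_top _)
    have hz : ∀ z w : Cfsg.Spor.Fi23, z * w = w * z := fun z w => psi_injective (by
      rw [map_mul, map_mul]
      exact congrArg Subtype.val (hab (psiCom z) (psiCom w)))
    have h1 : commutator Cfsg.Spor.Fi23 = ⊥ := by
      rw [eq_bot_iff, commutator_def, Subgroup.commutator_le]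
      intro a _ b _
      rw [Subgroup.mem_bot, commutatorElement_eq_one_iff_mul_comm]
      exact hz a b
    rw [fi23_perfect] at h1
    haveI := Fi23P.simple
    exact top_ne_bot h1
  have hperfE : commutator E = ⊤ := by
    rw [eq_top_iff]
    intro e _
    have hmap : (commutator E).map σ = ⊤ := by
      rw [commutator_def, Subgroup.map_commutator, Subgroup.map_top_of_surjective _ hσ.1,
        ← commutator_def, hperfG]
    obtain ⟨c, hc, hce⟩ := (hmap ▸ Subgroup.mem_top (σ e) : σ e ∈ (commutator E).map σ)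
    have hz : c⁻¹ * e ∈ σ.ker := by simp [MonoidHom.mem_ker, hce]
    simpa using mul_mem hc (hσ.2.2 hz)
  have hfst : D.map (MonoidHom.fst E E) = ⊤ := by
    rw [Subgroup.map_commutator, ← hperfE, commutator_def]
    have : Q.map (MonoidHom.fst E E) = ⊤ := eq_top_iff.2 fun x _ => by
      obtain ⟨e, he⟩ := hσ.1 (outerL (σ x))
      exact ⟨(x, e), he, rfl⟩
    rw [this]
  have hcen : ∀ p : E × E, σ p.1 = 1 → σ p.2 = 1 → ∀ y : E × E, y * p = p * y := fun p h1 h2 y =>
    Prod.ext (Subgroup.mem_center_iff.1 (hσ.2.1 h1) _) (Subgroup.mem_center_iff.1 (hσ.2.1 h2) _)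
  have hker2 : ∀ p ∈ Q, σ p.1 = 1 → σ p.2 = 1 := fun p hp h => by
    rw [show σ p.2 = outerL (σ p.1) from hp, h, map_one]
  have hDperf : D ≤ ⁅D, D⁆ := Subgroup.commutator_le.2 fun a ha b hb => by
    obtain ⟨x, hx, ex⟩ := (hfst ▸ Subgroup.mem_top a.1 : a.1 ∈ D.map (MonoidHom.fst E E))
    obtain ⟨y, hy, ey⟩ := (hfst ▸ Subgroup.mem_top b.1 : b.1 ∈ D.map (MonoidHom.fst E E))
    have hka : σ (a * x⁻¹).1 = 1 := by simp [show x.1 = a.1 from ex]
    have hlb : σ (b * y⁻¹).1 = 1 := by simp [show y.1 = b.1 from ey]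
    have e := commutator_of_center (x := x) (y := y) (k := a * x⁻¹) (l := b * y⁻¹)
      (fun m _ => hcen _ hka (hker2 _ (mul_mem ha (inv_mem (hDQ hx))) hka) m)
      (fun m _ => hcen _ hlb (hker2 _ (mul_mem hb (inv_mem (hDQ hy))) hlb) m)
    rw [inv_mul_cancel_right, inv_mul_cancel_right] at e
    rw [e]
    exact Subgroup.commutator_mem_commutator hx hy
  have hswap : D.map (MulEquiv.prodComm (M := E) (N := E)).toMonoidHom = D := by
    have hQ : Q.map (MulEquiv.prodComm (M := E) (N := E)).toMonoidHom = Q := by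
      refine le_antisymm ?_ fun p hp => ?_
      · rintro _ ⟨p, hp, rfl⟩
        show σ p.1 = outerL (σ p.2)
        rw [show σ p.2 = outerL (σ p.1) from hp, hout]
      · refine ⟨p.swap, ?_, ?_⟩
        · show σ p.1 = outerL (σ p.2)
          rw [show σ p.2 = outerL (σ p.1) from hp, hout]
        · exact Prod.swap_swap p
    rw [Subgroup.map_commutator, hQ]
  let sw : MulAut D :=
    (MulEquiv.subgroupMap (MulEquiv.prodComm (M := E) (N := E)) D).trans (MulEquiv.subgroupCongr hswap)
  have sw_coe : ∀ d : D, (sw d : E × E) = (d : E × E).swap := fun d => rfl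
  have sw2 : sw * sw = 1 := MulEquiv.ext fun d => Subtype.ext (by
    rw [MulAut.mul_apply, MulAut.one_apply, sw_coe, sw_coe, Prod.swap_swap])
  let φ : ℤˣ →* MulAut D :=
    { toFun := fun u => if u = 1 then 1 else sw
      map_one' := if_pos rfl
      map_mul' := fun a b => by
        have h : ((-1 : ℤˣ) = 1) = False := eq_false (by decide)
        rcases Int.units_eq_one_or a with rfl | rfl <;> rcases Int.units_eq_one_or b with rfl | rfl <;>
          simp [h, sw2] }
  let g : ℤˣ →* Cfsg.Spor.Fi24 :=
    { toFun := fun u => if u = 1 then 1 else eltL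
      map_one' := if_pos rfl
      map_mul' := fun a b => by
        have h : ((-1 : ℤˣ) = 1) = False := eq_false (by decide)
        rcases Int.units_eq_one_or a with rfl | rfl <;> rcases Int.units_eq_one_or b with rfl | rfl <;>
          simp [h, eltL_sq] }
  have hgne : g (-1) = eltL := by
    show (if (-1 : ℤˣ) = 1 then (1 : Cfsg.Spor.Fi24) else eltL) = eltL
    exact if_neg (show (-1 : ℤˣ) ≠ 1 by decide)
  let f : D →* Cfsg.Spor.Fi24 :=
    (comG.subtype.comp (σ.comp (MonoidHom.fst E E))).comp D.subtype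
  have hfg : ∀ u, f.comp (φ u).toMonoidHom = (MulAut.conj (g u)).toMonoidHom.comp f := by
    intro u
    ext d
    rcases Int.units_eq_one_or u with rfl | rfl
    · simp
    · show f ((if (-1 : ℤˣ) = 1 then 1 else sw) d) = g (-1) * f d * (g (-1))⁻¹
      rw [if_neg (show (-1 : ℤˣ) ≠ 1 by decide), hgne, inv_eq_of_mul_eq_one_right eltL_sq]
      show ((σ (sw d : E × E).1 : comG) : Cfsg.Spor.Fi24) = eltL * (σ d.1.1 : comG) * eltL
      rw [sw_coe, Prod.fst_swap, show σ d.1.2 = outerL (σ d.1.1) from hDQ d.2, outerL_coe]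
  let π : D ⋊[φ] ℤˣ →* Cfsg.Spor.Fi24 := SemidirectProduct.lift f g hfg
  have hπsign : ∀ m, signHom (π m) = m.right := by
    intro m
    have e : π m = f m.left * g m.right := rfl
    have hf : signHom (f m.left) = 1 := MonoidHom.mem_ker.1 (com_le_ker (σ m.left.1.1).2)
    rw [e, map_mul, hf, one_mul]
    rcases Int.units_eq_one_or m.right with h | h <;> rw [h]
    · simp
    · rw [hgne, sign_eltL]
  haveI : Finite (D ⋊[φ] ℤˣ) := Finite.of_injective (fun m => (m.left, m.right)) fun a b h => by
    obtain ⟨h1, h2⟩ := Prod.ext_iff.1 h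
    exact SemidirectProduct.ext h1 h2
  have hinl : ∀ m : D ⋊[φ] ℤˣ, m.right = 1 → SemidirectProduct.inl m.left = m := fun m h =>
    SemidirectProduct.ext (by simp) (by simp [h])
  let X : Ext (D ⋊[φ] ℤˣ) :=
    { proj := π
      surj := fun m => by
        rcases coset_cases m with h | h
        · obtain ⟨e, he⟩ := hσ.1 ⟨m, h⟩
          obtain ⟨d, hd, hde⟩ := (hfst ▸ Subgroup.mem_top e : e ∈ D.map (MonoidHom.fst E E))
          refine ⟨SemidirectProduct.inl ⟨d, hd⟩, ?_⟩
          rw [SemidirectProduct.lift_inl]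
          show ((σ d.1 : comG) : Cfsg.Spor.Fi24) = m
          rw [show d.1 = e from hde, he]
        · obtain ⟨e, he⟩ := hσ.1 ⟨_, h⟩
          obtain ⟨d, hd, hde⟩ := (hfst ▸ Subgroup.mem_top e : e ∈ D.map (MonoidHom.fst E E))
          refine ⟨SemidirectProduct.inl ⟨d, hd⟩ * SemidirectProduct.inr (-1), ?_⟩
          rw [map_mul, SemidirectProduct.lift_inl, SemidirectProduct.lift_inr,
            hgne]
          show ((σ d.1 : comG) : Cfsg.Spor.Fi24) * eltL = m
          rw [show d.1 = e from hde, he]
          show m * eltL * eltL = m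
          rw [mul_assoc, eltL_sq, mul_one]
      s := SemidirectProduct.inr (-1)
      map_s := by rw [SemidirectProduct.lift_inr]; exact hgne
      sq_s := by rw [← map_mul, show (-1 : ℤˣ) * -1 = 1 by decide, map_one]
      central := fun k d hk hd => by
        have hkr : k.right = 1 := by rw [← hπsign, hk, map_one]
        have hdr : d.right = 1 := by rw [← hπsign]; exact hd
        rw [← hinl k hkr, ← hinl d hdr, ← map_mul, ← map_mul]
        refine congrArg _ (Subtype.ext ?_)
        have hk1 : σ k.left.1.1 = 1 := by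
          rw [← hinl k hkr, SemidirectProduct.lift_inl] at hk
          exact Subtype.ext hk
        exact hcen _ hk1 (hker2 _ (hDQ k.left.2) hk1) d.left.1
      perfect := fun m hm => by
        have hr : m.right = 1 := by rw [← hπsign]; exact hm
        rw [← hinl m hr]
        have h1 : m.left ∈ ⁅(⊤ : Subgroup D), (⊤ : Subgroup D)⁆ := by
          have h2 : m.left.1 ∈ (⁅(⊤ : Subgroup D), (⊤ : Subgroup D)⁆).map D.subtype := by
            rw [Subgroup.map_commutator, ← MonoidHom.range_eq_map, Subgroup.range_subtype]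
            exact hDperf m.left.2
          obtain ⟨y, hy, e⟩ := h2
          rwa [← Subtype.ext (a1 := y) (a2 := m.left) e]
        have h3 := Subgroup.mem_map_of_mem (SemidirectProduct.inl (φ := φ)) h1
        rw [Subgroup.map_commutator] at h3
        refine Subgroup.commutator_mono ?_ ?_ h3 <;>
          · rintro _ ⟨d, -, rfl⟩
            rw [MonoidHom.mem_ker, MonoidHom.comp_apply, hπsign, SemidirectProduct.right_inl] }
  refine le_trans ?_ X.ker_card
  have hmem : ∀ z : σ.ker, ∃ m : X.proj.ker, m.1.left.1.1 = z.1 := fun z => by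
    obtain ⟨d, hd, hde⟩ := (hfst ▸ Subgroup.mem_top z.1 : z.1 ∈ D.map (MonoidHom.fst E E))
    refine ⟨⟨SemidirectProduct.inl ⟨d, hd⟩, ?_⟩, by simpa using hde⟩
    rw [MonoidHom.mem_ker]
    show π (SemidirectProduct.inl ⟨d, hd⟩) = 1
    rw [SemidirectProduct.lift_inl]
    show ((σ d.1 : comG) : Cfsg.Spor.Fi24) = 1
    rw [show d.1 = z.1 from hde, MonoidHom.mem_ker.1 z.2]
    rfl
  choose f' hf' using hmem
  exact Nat.card_le_card_of_injective f' fun a b h => Subtype.ext (by rw [← hf', ← hf', h])

end CfsgLib.Fi24P.Triple
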