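import Cfsg.Agent.Lib.Fi24P.Triple.Sub

/-!
# A connected family of transpositions fixing a common point

The kernel factors agree over the whole family.
-/

set_option autoImplicit false
set_option maxRecDepth 100000

namespace CfsgLib.Fi24P.Triple.Split

open CfsgLib.PresCert Cfsg.Spor

variable {M : Type} [Group M] (F : Split M)

/-- Two letters commute as nodes. -/
def commB (g h : ℕ) : Bool := commList.contains (g, h) || commList.contains (h, g)

/-- Two letters are joined as nodes. -/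
def braidB (g h : ℕ) : Bool := braidList.contains (g, h) || braidList.contains (h, g)

/-- Any two letters are linked by a commuting path of length two, and each letter after the
first is joined to an earlier one. -/
def famOk : List ℕ → Bool
  | [] => false
  | r :: rest => ((r :: rest).all fun g => (r :: rest).all fun h =>
      Nat.beq g h || commB g h || (r :: rest).any fun m => commB g m && commB m h) &&
    (List.range rest.length).all fun i => (r :: rest.take i).any fun h => braidB h (rest.getD i 0)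

theorem sq_div_trans {a b c : M} (ha : F.proj a = 1) (hb : F.proj b = 1) (hc : F.proj c = 1)
    (h1 : (a⁻¹ * b) ^ 2 = 1) (h2 : (b⁻¹ * c) ^ 2 = 1) : (a⁻¹ * c) ^ 2 = 1 := by
  have hcm : Commute (a⁻¹ * b) (b⁻¹ * c) := F.ker_comm
    (by rw [map_mul, map_inv, ha, hb, inv_one, one_mul]) (by rw [map_mul, map_inv, hb, hc, inv_one, one_mul])
  rw [show a⁻¹ * c = a⁻¹ * b * (b⁻¹ * c) by group, hcm.mul_pow, h1, h2, one_mul]

/-- The family carries one kernel factor. -/
theorem family {L : List ℕ} {X : ℕ → M} {y : M} (hok : famOk L = true)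
    (hsq : ∀ g ∈ L, X g * X g = 1) (hsg : ∀ g ∈ L, signHom (F.proj (X g)) = -1)
    (hH : ∀ g ∈ L, F.proj (y⁻¹ * X g * y) ∈ subgH)
    (hcomm : ∀ g ∈ L, ∀ h ∈ L, commB g h = true → (X g * X h) ^ 2 = 1)
    (hbraid : ∀ g ∈ L, ∀ h ∈ L, braidB g h = true → (X g * X h) ^ 3 = 1) :
    ∃ k, F.proj k = 1 ∧ F.s * k * F.s = k⁻¹ ∧
      ∀ g ∈ L, ∃ u, y⁻¹ * X g * y = F.Φ u * F.s * k := by
  rcases L with _ | ⟨r, rest⟩
  · simp [famOk] at hok
  simp only [famOk, Bool.and_eq_true] at hok
  obtain ⟨hpath, htree⟩ := hok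
  have T : ∀ g : {g // g ∈ r :: rest}, ∃ u k, F.proj k = 1 ∧ F.s * k * F.s = k⁻¹ ∧
      y⁻¹ * X g.1 * y = F.Φ u * F.s * k ∧ F.Φ u * F.s * (F.Φ u * F.s) = 1 :=
    fun g => F.transport (hsq g.1 g.2) (hsg g.1 g.2) (hH g.1 g.2)
  choose u k hk hki he _ using T
  have hc : ∀ g h, commB g.1 h.1 = true → ((k g)⁻¹ * k h) ^ 2 = 1 := fun g h hh =>
    F.transport_rel (hcomm g.1 g.2 h.1 h.2 hh) (hk g) (hk h) (hki g) (he g) (he h)
  have hb : ∀ g h, braidB g.1 h.1 = true → ((k g)⁻¹ * k h) ^ 3 = 1 := fun g h hh =>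
    F.transport_rel (hbraid g.1 g.2 h.1 h.2 hh) (hk g) (hk h) (hki g) (he g) (he h)
  have hall : ∀ g h, ((k g)⁻¹ * k h) ^ 2 = 1 := by
    intro g h
    have h1 := List.all_eq_true.1 (List.all_eq_true.1 hpath g.1 g.2) h.1 h.2
    simp only [Bool.or_eq_true, List.any_eq_true, Bool.and_eq_true, Nat.beq_eq] at h1
    rcases h1 with (e | h1) | ⟨m, hm, h1, h2⟩
    · rw [show g = h from Subtype.ext e]; simp
    · exact hc g h h1
    · exact F.sq_div_trans (hk g) (hk ⟨m, hm⟩) (hk h) (hc g ⟨m, hm⟩ h1) (hc ⟨m, hm⟩ h h2)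
  have heq : ∀ g h, braidB g.1 h.1 = true → k g = k h := by
    intro g h hh
    have h3 := hb g h hh
    rw [pow_succ, hall g h, one_mul] at h3
    exact inv_mul_eq_one.1 h3
  let r0 : {g // g ∈ r :: rest} := ⟨r, List.mem_cons_self⟩
  have hone : ∀ i (hi : i < rest.length), k ⟨rest[i], List.mem_cons_of_mem _ (List.getElem_mem hi)⟩ = k r0 := by
    intro i
    induction i using Nat.strong_induction_on with
    | h i ih =>
      intro hi
      have h1 := List.all_eq_true.1 htree i (List.mem_range.2 hi)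
      rw [List.getD_eq_getElem _ _ hi, List.any_eq_true] at h1
      obtain ⟨h, hm, hh⟩ := h1
      rcases List.mem_cons.1 hm with rfl | hm
      · exact (heq r0 ⟨rest[i], _⟩ hh).symm
      · obtain ⟨j, hj, rfl⟩ := List.getElem_of_mem hm
        have hj' : j < i := by rw [List.length_take] at hj; omega
        have hj2 : j < rest.length := by omega
        rw [List.getElem_take] at hh
        rw [← ih j hj' hj2]
        exact (heq ⟨rest[j], _⟩ ⟨rest[i], _⟩ hh).symm
  refine ⟨k r0, hk r0, hki r0, fun g hg => ⟨u ⟨g, hg⟩, ?_⟩⟩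
  have e : k ⟨g, hg⟩ = k r0 := by
    rcases List.mem_cons.1 hg with rfl | hg'
    · rfl
    · obtain ⟨i, hi, rfl⟩ := List.getElem_of_mem hg'
      exact hone i hi
  rw [← e]
  exact he ⟨g, hg⟩

/-- The value of a word in a family. -/
theorem family_word {L : List ℕ} {X : ℕ → M} {y k : M} (hk : F.proj k = 1)
    (hki : F.s * k * F.s = k⁻¹) (hu : ∀ g ∈ L, ∃ u, y⁻¹ * X g * y = F.Φ u * F.s * k) :
    ∀ {w : List ℕ}, (∀ g ∈ w, g ∈ L) → ∃ z, y⁻¹ * act X w * y =
      if w.length % 2 = 0 then F.Φ z else F.Φ z * F.s * k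
  | [], _ => ⟨1, by simp [act_nil]⟩
  | g :: w, h => by
    obtain ⟨u, hu'⟩ := hu g (h g List.mem_cons_self)
    obtain ⟨z, hz⟩ := family_word hk hki hu (w := w) fun a ha => h a (List.mem_cons_of_mem _ ha)
    refine ⟨z * u, ?_⟩
    have e : y⁻¹ * act X (g :: w) * y = y⁻¹ * act X w * y * (y⁻¹ * X g * y) := by
      rw [act_cons]; group
    rw [e, hz, hu', List.length_cons, map_mul]
    rcases Nat.mod_two_eq_zero_or_one w.length with a | a
    · rw [if_pos a, if_neg (by omega)]
      simp only [mul_assoc]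
    · rw [if_neg (by omega), if_pos (by omega)]
      have hp : signHom (F.proj (F.Φ u * F.s)) = -1 := by
        rw [map_mul, map_mul, F.map_Φ, psi_sign, F.map_s, sign_eltL, one_mul]
      have h1 : F.Φ u * F.s * k = k⁻¹ * (F.Φ u * F.s) := by
        rw [F.odd_conj hk hp, hki]
      calc F.Φ z * F.s * k * (F.Φ u * F.s * k)
          = F.Φ z * F.s * (k * k⁻¹) * (F.Φ u * F.s) := by rw [h1]; group
        _ = F.Φ z * (F.s * F.Φ u) * F.s := by group
        _ = F.Φ z * F.Φ u := by rw [F.comm_s]; simp only [mul_assoc, F.sq_s, mul_one]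

end CfsgLib.Fi24P.Triple.Split
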