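import Cfsg.Agent.Lib.Fi24P.Triple.Family

/-!
# A lift of the second generator

All defining relations except the last one can be satisfied by lifts.
-/

set_option autoImplicit false
set_option maxRecDepth 100000

namespace CfsgLib.Fi24P.Triple

open CfsgLib.PresCert Cfsg.Spor

/-- The letters of a subdiagram of type E8 through the second generator. -/
def eightSet : List ℕ := [1, 2, 3, 4, 5, 6, 7, 10]

/-- The product of three times the first and second generators, written in the eight letters. -/
def eightRel : List ℕ := (List.replicate 3 ([1] ++ (List.replicate 9 wordV).flatten)).flatten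

theorem eightRel_ok : eightRel.all (fun g => eightSet.contains g) = true ∧
    eightRel.length % 2 = 0 ∧ Split.famOk eightSet = true ∧
    eightSet.all (fun g => Nat.blt g 12 && Nat.beq (tab.walk 1 [g]) 1) = true := by
  decide +kernel

namespace Split

variable {M : Type} [Group M] (F : Split M)

theorem cube_one {G : Type*} [Group G] {g h : G} (e : g * h * g = h * g * h) (hg : g * g = 1)
    (hh : h * h = 1) : (h * g) ^ 3 = 1 := by
  calc (h * g) ^ 3 = (h * g * h) * (g * h * g) := by simp only [pow_succ, pow_zero, one_mul, mul_assoc]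
    _ = (g * h * g) * (g * h * g) := by rw [e]
    _ = g * h * (g * g) * h * g := by simp only [mul_assoc]
    _ = 1 := by rw [hg, mul_one, mul_assoc g h h, hh, mul_one, hg]

theorem pow_three_symm {G : Type*} [Group G] {x y : G} (hx : x * x = 1) (hy : y * y = 1) :
    ((x * y) ^ 3)⁻¹ = (y * x) ^ 3 := by
  rw [← inv_pow, mul_inv_rev, inv_eq_of_mul_eq_one_right hx, inv_eq_of_mul_eq_one_right hy]

theorem pow_three_conj {x y : M} (hx : x * x = 1) (hy : y * y = 1) :
    x * (x * y) ^ 3 * x = ((x * y) ^ 3)⁻¹ := by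
  rw [← inv_pow, mul_inv_rev, inv_eq_of_mul_eq_one_right hx, inv_eq_of_mul_eq_one_right hy]
  simp only [pow_succ, pow_zero, one_mul]
  simp only [← mul_assoc, hx, one_mul]

/-- An odd element inverting a kernel element shows that the chosen involution inverts it. -/
theorem inverted {p k : M} (hp : signHom (F.proj p) = -1) (hpp : p * p = 1) (hk : F.proj k = 1)
    (h : p * k * p = k⁻¹) : F.s * k * F.s = k⁻¹ := by
  rw [F.odd_conj hk hp, mul_assoc, hpp, mul_one] at h
  exact h

theorem flip {p k : M} (hp : signHom (F.proj p) = -1) (hk : F.proj k = 1)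
    (hi : F.s * k * F.s = k⁻¹) : p * k = k⁻¹ * p := by rw [F.odd_conj hk hp, hi]

/-- A lift of the second generator commuting with the nine. -/
theorem exists_k0 : ∃ k : M, F.proj k = ftGen 1 ∧ k * k = 1 ∧
    ∀ g, 2 < g → g < 12 → F.xS g * k = k * F.xS g := by
  obtain ⟨y, hy⟩ := F.surj (eltL * ftGen 1)
  have hys : signHom (F.proj y) = 1 := by
    rw [hy, map_mul, sign_eltL, signHom_gen]; rfl
  let d : ℕ → M := fun g => y⁻¹ * (F.xS g * y * F.xS g)
  have hg : ∀ g, 2 < g → g < 12 → F.proj (d g) = 1 ∧ F.xS g * y * F.xS g = y * d g ∧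
      F.s * d g * F.s = (d g)⁻¹ := by
    intro g h2 h12
    have h1 : g ≠ 1 := by omega
    have hp : F.proj (d g) = 1 := by
      simp only [d, map_mul, map_inv, F.map_xS h12 h1, hy]
      have c1 : eltL * ftGen g = ftGen g * eltL := eltL_comm h12 h1
      have c2 : ftGen 1 * ftGen g = ftGen g * ftGen 1 := gen_comm (by interval_cases g <;> decide)
      rw [inv_mul_eq_one]
      calc eltL * ftGen 1 = eltL * ftGen 1 * (ftGen g * ftGen g) := by rw [ftGen_sq g h12, mul_one]
        _ = eltL * (ftGen 1 * ftGen g) * ftGen g := by simp only [mul_assoc]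
        _ = eltL * ftGen g * ftGen 1 * ftGen g := by rw [c2]; simp only [mul_assoc]
        _ = ftGen g * (eltL * ftGen 1) * ftGen g := by rw [c1]; simp only [mul_assoc]
    have he : F.xS g * y * F.xS g = y * d g := (mul_inv_cancel_left _ _).symm
    refine ⟨hp, he, F.inverted (F.xS_sign h12 h1) (F.xS_sq h12 h1) hp ?_⟩
    have hsq := F.xS_sq h12 h1
    refine eq_inv_of_mul_eq_one_right ?_
    refine mul_left_cancel (a := y) ?_
    rw [mul_one, ← mul_assoc, ← he]
    calc F.xS g * y * F.xS g * (F.xS g * d g * F.xS g)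
        = F.xS g * (y * (F.xS g * F.xS g) * d g) * F.xS g := by simp only [mul_assoc]
      _ = F.xS g * (F.xS g * y * F.xS g) * F.xS g := by rw [hsq, mul_one, he]
      _ = (F.xS g * F.xS g) * y * (F.xS g * F.xS g) := by simp only [mul_assoc]
      _ = y := by rw [hsq, one_mul, mul_one]
  have hpair : ∀ g h, 2 < g → g < 12 → 2 < h → h < 12 → ((g, h) ∈ commList ∨ (h, g) ∈ commList) →
      d g * d g = d h * d h := by
    intro g h g2 g12 h2 h12 hm
    obtain ⟨pg, eg, ig⟩ := hg g g2 g12
    obtain ⟨ph, eh, ih⟩ := hg h h2 h12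
    have hc : F.xS g * F.xS h = F.xS h * F.xS g := by
      rcases hm with hm | hm
      · exact F.xS_comm hm (by omega) (by omega)
      · exact (F.xS_comm hm (by omega) (by omega)).symm
    have one : ∀ {a b : ℕ}, 2 < a → a < 12 → 2 < b → b < 12 →
        F.xS b * F.xS a * y * F.xS a * F.xS b = y * d b * (d a)⁻¹ := by
      intro a b a2 a12 b2 b12
      obtain ⟨pa, ea, ia⟩ := hg a a2 a12
      obtain ⟨pb, eb, -⟩ := hg b b2 b12
      calc F.xS b * F.xS a * y * F.xS a * F.xS b
          = F.xS b * (F.xS a * y * F.xS a) * F.xS b := by simp only [mul_assoc]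
        _ = F.xS b * y * (F.xS b * F.xS b) * d a * F.xS b := by
            rw [ea, F.xS_sq b12 (by omega), mul_one]; simp only [mul_assoc]
        _ = F.xS b * y * F.xS b * (F.xS b * d a) * F.xS b := by simp only [mul_assoc]
        _ = F.xS b * y * F.xS b * (d a)⁻¹ * (F.xS b * F.xS b) := by
            rw [F.flip (F.xS_sign b12 (by omega)) pa ia]; simp only [mul_assoc]
        _ = y * d b * (d a)⁻¹ := by rw [F.xS_sq b12 (by omega), mul_one, eb]
    have e : y * d g * (d h)⁻¹ = y * d h * (d g)⁻¹ := by
      rw [← one g2 g12 h2 h12, ← one h2 h12 g2 g12]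
      have : F.xS h * F.xS g * y * (F.xS g * F.xS h) = F.xS g * F.xS h * y * (F.xS h * F.xS g) := by
        rw [hc]
      simpa only [mul_assoc] using this.symm
    have e' := mul_left_cancel ((mul_assoc y _ _).symm.trans (e.trans (mul_assoc y _ _)))
    have hcm : Commute (d g) (d h) := F.ker_comm pg ph
    calc d g * d g = (d g * (d h)⁻¹) * d h * d g := by group
      _ = d h * (d g)⁻¹ * (d h * d g) := by rw [e']; simp only [mul_assoc]
      _ = d h * (d g)⁻¹ * (d g * d h) := by rw [hcm.eq]
      _ = d h * d h := by group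
  have hall : ∀ g, 2 < g → g < 12 → d g * d g = d 11 * d 11 := by
    intro g g2 g12
    by_cases h11 : g = 11
    · rw [h11]
    by_cases h10 : g = 10
    · subst h10
      exact (hpair 10 3 (by norm_num) (by norm_num) (by norm_num) (by norm_num)
        (Or.inr (by decide))).trans
        (hpair 3 11 (by norm_num) (by norm_num) (by norm_num) (by norm_num) (Or.inl (by decide)))
    exact hpair g 11 g2 g12 (by norm_num) (by norm_num)
      (Or.inl (by interval_cases g <;> first | decide | omega))
  obtain ⟨pd, -, id⟩ := hg 11 (by norm_num) (by norm_num)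
  set t := (d 11)⁻¹ with ht
  have pt : F.proj t = 1 := by rw [ht, map_inv, pd, inv_one]
  have it : F.s * t * F.s = t⁻¹ := by
    rw [ht, F.conj_inv, id]
  have hss : y * F.s * y⁻¹ * (y * F.s * y⁻¹) = 1 := by
    rw [show y * F.s * y⁻¹ * (y * F.s * y⁻¹) = y * (F.s * F.s) * y⁻¹ by group, F.sq_s, mul_one,
      mul_inv_cancel]
  have hsk : signHom (F.proj (y * F.s * y⁻¹)) = -1 := by
    rw [map_mul, map_mul, map_mul, map_mul, map_inv, map_inv, hys, F.map_s, sign_eltL]; rfl
  have hpk : F.proj (y * F.s * y⁻¹) = ftGen 1 := by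
    rw [map_mul, map_mul, map_inv, F.map_s, hy, mul_inv_rev,
      inv_eq_of_mul_eq_one_right (ftGen_sq 1 (by norm_num)), inv_eq_of_mul_eq_one_right eltL_sq]
    have hb := gen_braid (g := 0) (h := 1) (by decide)
    calc eltL * ftGen 1 * eltL * (ftGen 1 * eltL)
        = (eltL * ftGen 1 * eltL) * ftGen 1 * eltL := by simp only [mul_assoc]
      _ = ftGen 1 * eltL * (ftGen 1 * ftGen 1) * eltL := by
          rw [show eltL = ftGen 0 from rfl, hb]; simp only [mul_assoc]
      _ = ftGen 1 := by rw [ftGen_sq 1 (by norm_num), mul_one, mul_assoc, eltL_sq, mul_one]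
  refine ⟨y * F.s * y⁻¹ * t, by rw [map_mul, hpk, pt, mul_one], ?_, fun g g2 g12 => ?_⟩
  · calc y * F.s * y⁻¹ * t * (y * F.s * y⁻¹ * t)
        = y * F.s * y⁻¹ * (y * F.s * y⁻¹) * (t⁻¹ * t) := by
          rw [← mul_assoc (y * F.s * y⁻¹ * t), mul_assoc (y * F.s * y⁻¹) t,
            ← inv_inv t, ← (F.flip hsk (by rw [map_inv, pt, inv_one]) (by
              rw [F.conj_inv, it]))]
          simp only [inv_inv, mul_assoc]
      _ = 1 := by rw [hss, inv_mul_cancel, one_mul]
  · obtain ⟨pg, eg, ig⟩ := hg g g2 g12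
    have h1 : g ≠ 1 := by omega
    have hx := F.xS_sq g12 h1
    have eg' : F.xS g * y⁻¹ * F.xS g = (d g)⁻¹ * y⁻¹ := by
      rw [← mul_inv_rev, ← eg, mul_inv_rev, mul_inv_rev, F.xS_inv g12 h1, mul_assoc]
    have hxs : F.xS g * F.s * F.xS g = F.s := by
      have hc : F.xS 0 * F.xS g = F.xS g * F.xS 0 :=
        F.xS_comm (by interval_cases g <;> decide) (by norm_num) h1
      rw [show F.s = F.xS 0 by simp [xS], ← hc, mul_assoc, hx, mul_one]
    have e1 : F.xS g * (y * F.s * y⁻¹) * F.xS g = y * F.s * y⁻¹ * ((d g)⁻¹ * (d g)⁻¹) := by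
      have hc : Commute y⁻¹ ((d g)⁻¹ * (d g)⁻¹) :=
        (F.central _ _ (by rw [map_mul, map_inv, pg, inv_one, one_mul]) (by
          rw [map_inv, map_inv, hys, inv_one]))
      calc F.xS g * (y * F.s * y⁻¹) * F.xS g
          = F.xS g * y * (F.xS g * F.xS g) * F.s * (F.xS g * F.xS g) * y⁻¹ * F.xS g := by
            rw [hx, mul_one, mul_one]; simp only [mul_assoc]
        _ = (F.xS g * y * F.xS g) * (F.xS g * F.s * F.xS g) * (F.xS g * y⁻¹ * F.xS g) := by
            simp only [mul_assoc]
        _ = y * (d g * F.s) * ((d g)⁻¹ * y⁻¹) := by rw [eg, hxs, eg']; simp only [mul_assoc]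
        _ = y * (F.s * (d g)⁻¹) * ((d g)⁻¹ * y⁻¹) := by
            rw [F.flip (k := (d g)⁻¹) (by rw [F.map_s, sign_eltL]) (by rw [map_inv, pg, inv_one])
              (by rw [F.conj_inv, ig]), inv_inv]
        _ = y * F.s * ((d g)⁻¹ * (d g)⁻¹ * y⁻¹) := by simp only [mul_assoc]
        _ = _ := by rw [← hc.eq]; simp only [mul_assoc]
    have hd : (d g)⁻¹ * (d g)⁻¹ = t * t := by
      rw [ht, ← mul_inv_rev, ← mul_inv_rev, hall g g2 g12]
    rw [hd] at e1
    calc F.xS g * (y * F.s * y⁻¹ * t)
        = F.xS g * (y * F.s * y⁻¹) * (F.xS g * F.xS g) * t := by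
          rw [hx, mul_one]; simp only [mul_assoc]
      _ = F.xS g * (y * F.s * y⁻¹) * F.xS g * (F.xS g * t) := by simp only [mul_assoc]
      _ = y * F.s * y⁻¹ * (t * t) * (t⁻¹ * F.xS g) := by rw [e1, F.flip (F.xS_sign g12 h1) pt it]
      _ = _ := by group

/-- The lift can be chosen to satisfy both braid relations. -/
theorem exists_k : ∃ k : M, F.proj k = ftGen 1 ∧ k * k = 1 ∧
    (∀ g, 2 < g → g < 12 → F.xS g * k = k * F.xS g) ∧ (F.xS 2 * k) ^ 3 = 1 ∧
    (F.xS 0 * k) ^ 3 = 1 := by
  obtain ⟨k, hk, hk2, hkc⟩ := F.exists_k0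
  have hk1 : signHom (F.proj k) = -1 := by rw [hk, signHom_gen]
  set a := F.xS 2 with ha
  set b := F.xS 3
  set c := F.xS 4
  have a2 : a * a = 1 := F.xS_sq (by norm_num) (by norm_num)
  have b2 : b * b = 1 := F.xS_sq (by norm_num) (by norm_num)
  have c2 : c * c = 1 := F.xS_sq (by norm_num) (by norm_num)
  have pe : F.proj ((a * k) ^ 3) = 1 := by
    rw [map_pow, map_mul, F.map_xS (by norm_num) (by norm_num), hk]
    exact CfsgLib.Fi24P.Triple.Split.cube_one (gen_braid (g := 1) (h := 2) (by decide))
      (ftGen_sq 1 (by norm_num)) (ftGen_sq 2 (by norm_num))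
  set e := (a * k) ^ 3 with he
  have ie : F.s * e * F.s = e⁻¹ :=
    F.inverted (F.xS_sign (g := 2) (by norm_num) (by norm_num)) a2 pe (pow_three_conj a2 hk2)
  -- the conjugate of a commuting pair
  have hw1 : k * a * b * c * k * (c * b * a * k) = e⁻¹ * a := by
    have hkb : b * k = k * b := hkc 3 (by norm_num) (by norm_num)
    have hkc' : c * k = k * c := hkc 4 (by norm_num) (by norm_num)
    calc k * a * b * c * k * (c * b * a * k) = k * a * b * (c * k) * (c * b * a * k) := by
          simp only [mul_assoc]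
      _ = k * a * b * k * (c * c) * b * a * k := by rw [hkc']; simp only [mul_assoc]
      _ = k * a * (b * k) * b * a * k := by rw [c2, mul_one]; simp only [mul_assoc]
      _ = k * a * k * (b * b) * a * k := by rw [hkb]; simp only [mul_assoc]
      _ = e⁻¹ * a := by
          rw [b2, mul_one, he, ← inv_pow, mul_inv_rev, inv_eq_of_mul_eq_one_right a2,
            inv_eq_of_mul_eq_one_right hk2]
          simp only [pow_succ, pow_zero, one_mul, mul_assoc, a2, mul_one]
  have hw2 : k * a * b * c * b * (c * b * a * k) = c := by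
    have hbc : b * c * b = c * b * c := F.xS_braid (g := 3) (h := 4) (by decide) (by norm_num) (by norm_num)
    have hac : a * c = c * a := F.xS_comm (g := 2) (h := 4) (by decide) (by norm_num) (by norm_num)
    have hkc' : c * k = k * c := hkc 4 (by norm_num) (by norm_num)
    calc k * a * b * c * b * (c * b * a * k) = k * a * (b * c * b) * (c * b) * (a * k) := by
          simp only [mul_assoc]
      _ = k * a * (c * b * (c * c) * b) * (a * k) := by rw [hbc]; simp only [mul_assoc]
      _ = k * (a * c) * (a * k) := by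
          rw [c2, mul_one, mul_assoc c, b2, mul_one]; simp only [mul_assoc]
      _ = k * c * (a * a) * k := by rw [hac]; simp only [mul_assoc]
      _ = k * (c * k) := by rw [a2, mul_one, mul_assoc]
      _ = c := by rw [hkc', ← mul_assoc, hk2, one_mul]
  have hsig : ∀ g, g < 12 → g ≠ 1 → signHom (F.proj (F.xS g)) = -1 := fun g hg h1 => F.xS_sign hg h1
  have pe' : F.proj e⁻¹ = 1 := by rw [map_inv, pe, inv_one]
  have ie' : F.s * e⁻¹ * F.s = e⁻¹⁻¹ := by
    rw [F.conj_inv, ie]
  have e2 : e * e = 1 := by
    have hinv : (k * a * b * c) * (c * b * a * k) = 1 := by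
      calc (k * a * b * c) * (c * b * a * k) = k * a * b * (c * c) * b * a * k := by
            simp only [mul_assoc]
        _ = k * a * (b * b) * a * k := by rw [c2, mul_one]; simp only [mul_assoc]
        _ = k * (a * a) * k := by rw [b2, mul_one]; simp only [mul_assoc]
        _ = 1 := by rw [a2, mul_one, hk2]
    have hwc : (e⁻¹ * a) * c = c * (e⁻¹ * a) := by
      have hkb : b * k = k * b := hkc 3 (by norm_num) (by norm_num)
      have hi : c * b * a * k = (k * a * b * c)⁻¹ := eq_inv_of_mul_eq_one_right hinv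
      obtain ⟨W, hW⟩ : ∃ W, W = k * a * b * c := ⟨_, rfl⟩
      have h1 : W * k * W⁻¹ = e⁻¹ * a := by rw [hW, ← hi]; exact hw1
      have h2 : W * b * W⁻¹ = c := by rw [hW, ← hi]; exact hw2
      calc e⁻¹ * a * c = W * k * W⁻¹ * (W * b * W⁻¹) := by rw [h1, h2]
        _ = W * (k * b) * W⁻¹ := by group
        _ = W * (b * k) * W⁻¹ := by rw [hkb]
        _ = W * b * W⁻¹ * (W * k * W⁻¹) := by group
        _ = c * (e⁻¹ * a) := by rw [h1, h2]
    rw [← mul_assoc c, F.flip (hsig 4 (by norm_num) (by norm_num)) pe' ie', inv_inv,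
      mul_assoc, mul_assoc, ← F.xS_comm (g := 2) (h := 4) (by decide) (by norm_num) (by norm_num)] at hwc
    have := mul_right_cancel hwc
    calc e * e = e⁻¹ * e := by rw [this]
      _ = 1 := inv_mul_cancel e
  have einv : e⁻¹ = e := inv_eq_of_mul_eq_one_right e2
  have es : F.s * e * F.s = e := by rw [ie, einv]
  have hec : ∀ m : M, m * e = e * m := by
    intro m
    rcases F.sign_cases m with h | h
    · exact F.central _ _ pe h
    · have h1 := F.central _ _ pe h
      calc m * e = m * (F.s * F.s) * e * (F.s * F.s) := by rw [F.sq_s, mul_one, mul_one]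
        _ = m * F.s * (F.s * e * F.s) * F.s := by simp only [mul_assoc]
        _ = e * (m * F.s) * F.s := by rw [es, h1]
        _ = e * m := by simp only [mul_assoc, F.sq_s, mul_one]
  set K := k * e with hK
  have K2 : K * K = 1 := by
    rw [hK, show k * e * (k * e) = k * (e * k) * e by group, ← hec, ← mul_assoc, hk2, one_mul, e2]
  have Kc : ∀ g, 2 < g → g < 12 → F.xS g * K = K * F.xS g := fun g g2 g12 => by
    rw [hK, ← mul_assoc, hkc g g2 g12, mul_assoc, hec, ← mul_assoc]
  have K3 : (a * K) ^ 3 = 1 := by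
    rw [hK, ← mul_assoc, Commute.mul_pow (hec (a * k)), ← he]
    simp only [pow_succ, pow_zero, one_mul]
    rw [e2, one_mul, e2]
  have pK : F.proj K = ftGen 1 := by rw [hK, map_mul, hk, pe, mul_one]
  have hK1 : signHom (F.proj K) = -1 := by rw [pK, signHom_gen]
  refine ⟨K, pK, K2, Kc, K3, ?_⟩
  -- the other braid
  set l := F.xS 0 with hl
  have l2 : l * l = 1 := F.xS_sq (by norm_num) (by norm_num)
  have pf : F.proj ((l * K) ^ 3) = 1 := by
    rw [map_pow, map_mul, F.map_xS (by norm_num) (by norm_num), pK]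
    exact CfsgLib.Fi24P.Triple.Split.cube_one (gen_braid (g := 0) (h := 1) (by decide)).symm
      (ftGen_sq 1 (by norm_num)) (ftGen_sq 0 (by norm_num))
  have hX : ∃ X : ℕ → M, X 1 = K ∧ ∀ g, g ≠ 1 → X g = F.xS g :=
    ⟨fun g => if g = 1 then K else F.xS g, if_pos rfl, fun g hg => if_neg hg⟩
  obtain ⟨X, hX1, hXS⟩ := hX
  obtain ⟨hRin, hRlen, hfam, hfix⟩ := eightRel_ok
  have hlt : ∀ g ∈ eightSet, g < 12 := fun g hg => by
    have := List.all_eq_true.1 hfix g hg
    simp only [Bool.and_eq_true, Nat.blt_eq] at this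
    exact this.1
  have hsqX : ∀ g ∈ eightSet, X g * X g = 1 := fun g hg => by
    by_cases h : g = 1
    · rw [h, hX1, K2]
    · rw [hXS g h]; exact F.xS_sq (hlt g hg) h
  have hpX : ∀ g ∈ eightSet, F.proj (X g) = ftGen g := fun g hg => by
    by_cases h : g = 1
    · rw [h, hX1, pK]
    · rw [hXS g h]; exact F.map_xS (hlt g hg) h
  obtain ⟨q, hq⟩ := proj_bijective.2 ⟨1, by rw [tab_n]; norm_num⟩
  obtain ⟨m, rfl⟩ := QuotientGroup.mk_surjective q
  obtain ⟨y, rfl⟩ := F.surj m
  have hbase : ((F.proj y : Cfsg.Spor.Fi24) : Cos) = F.proj y • base0 := by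
    rw [base0, MulAction.Quotient.smul_coe, smul_eq_mul, mul_one]
  rw [hbase, proj_smul] at hq
  have hH : ∀ g ∈ eightSet, F.proj (y⁻¹ * X g * y) ∈ subgH := by
    intro g hg
    have h1 : phi (ftGen g) (phi (F.proj y) pt0) = phi (F.proj y) pt0 := by
      refine Fin.ext ?_
      rw [realised.app g (hlt g hg), hq]
      have := List.all_eq_true.1 hfix g hg
      simp only [Bool.and_eq_true, Nat.beq_eq, Fast.Tab.walk] at this
      exact this.2
    have h2 : CfsgLib.Fi24P.proj (((F.proj y)⁻¹ * ftGen g * F.proj y) • base0) =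
        CfsgLib.Fi24P.proj ((1 : Cfsg.Spor.Fi24) • base0) := by
      rw [proj_smul, proj_smul, map_mul, map_mul, map_one, Equiv.Perm.mul_apply,
        Equiv.Perm.mul_apply, h1, ← Equiv.Perm.mul_apply, ← map_mul, inv_mul_cancel, map_one]
    have h3 := proj_bijective.1 h2
    rw [one_smul, base0, MulAction.Quotient.smul_coe, smul_eq_mul, mul_one, QuotientGroup.eq,
      mul_one, inv_mem_iff] at h3
    rwa [map_mul, map_mul, map_inv, hpX g hg]
  have hrel : ∀ g ∈ eightSet, ∀ h ∈ eightSet, ∀ n, (commB g h = true ∧ n = 2 ∨ braidB g h = true ∧ n = 3) →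
      (X g * X h) ^ n = 1 := by
    intro g hg h hh n hn
    by_cases g1 : g = 1
    · subst g1
      have h1 : h ≠ 1 := by
        rintro rfl
        revert hn; simp [commB, braidB, commList, braidList]
      rw [hX1, hXS h h1]
      rcases hn with ⟨hc, rfl⟩ | ⟨hb, rfl⟩
      · have h2 : 2 < h := by
          by_contra h2
          interval_cases h <;> first | omega | (simp [commB, commList] at hc) | (simp [eightSet] at hh)
        rw [pow_two, ← mul_assoc, mul_assoc K, Kc h h2 (hlt h hh), ← mul_assoc, K2, one_mul,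
          F.xS_sq (hlt h hh) h1]
      · have : h = 2 := by
          simp only [eightSet, List.mem_cons, List.not_mem_nil, or_false] at hh
          rcases hh with rfl | rfl | rfl | rfl | rfl | rfl | rfl | rfl <;> simp [braidB, braidList] at hb ⊢
        subst this
        rw [← pow_three_symm (F.xS_sq (hlt 2 hh) h1) K2, K3, inv_one]
    · by_cases h1 : h = 1
      · subst h1
        rw [hX1, hXS g g1]
        rcases hn with ⟨hc, rfl⟩ | ⟨hb, rfl⟩
        · have g2 : 2 < g := by
            by_contra g2
            interval_cases g <;> first | omega | (simp [commB, commList] at hc) | (simp [eightSet] at hg)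
          rw [pow_two, mul_assoc, ← mul_assoc K, ← Kc g g2 (hlt g hg), mul_assoc (F.xS g) K K, K2,
            mul_one, F.xS_sq (hlt g hg) g1]
        · have : g = 2 := by
            simp only [eightSet, List.mem_cons, List.not_mem_nil, or_false] at hg
            rcases hg with rfl | rfl | rfl | rfl | rfl | rfl | rfl | rfl <;> simp [braidB, braidList] at hb ⊢
          subst this
          exact K3
      · rw [hXS g g1, hXS h h1]
        have hg2 := F.xS_sq (hlt g hg) g1
        have hh2 := F.xS_sq (hlt h hh) h1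
        rcases hn with ⟨hc, rfl⟩ | ⟨hb, rfl⟩
        · have e : F.xS g * F.xS h = F.xS h * F.xS g := by
            simp only [commB, Bool.or_eq_true, List.contains_iff_mem] at hc
            rcases hc with hc | hc
            · exact F.xS_comm hc g1 h1
            · exact (F.xS_comm hc h1 g1).symm
          rw [pow_two]
          conv_lhs => arg 2; rw [e]
          rw [mul_assoc, ← mul_assoc (F.xS h), hh2, one_mul, hg2]
        · simp only [braidB, Bool.or_eq_true, List.contains_iff_mem] at hb
          have e : F.xS g * F.xS h * F.xS g = F.xS h * F.xS g * F.xS h := by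
            rcases hb with hb | hb
            · exact F.xS_braid hb g1 h1
            · exact (F.xS_braid hb h1 g1).symm
          exact cube_one e.symm hh2 hg2
  obtain ⟨z, hz, hzi, hu⟩ := F.family (X := X) (y := y) hfam hsqX
    (fun g hg => by rw [hpX g hg, signHom_gen]) hH
    (fun g hg h hh hc => hrel g hg h hh 2 (Or.inl ⟨hc, rfl⟩))
    (fun g hg h hh hc => hrel g hg h hh 3 (Or.inr ⟨hc, rfl⟩))
  obtain ⟨u, hu'⟩ := F.family_word hz hzi hu (w := eightRel) fun g hg =>
    List.contains_iff_mem.1 (List.all_eq_true.1 hRin g hg)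
  rw [if_pos hRlen] at hu'
  have hV : act X (List.replicate 9 wordV).flatten = l := by
    have hx : ∀ {w : List ℕ}, (∀ g ∈ w, g ≠ 1) → act X w = act F.xS w := by
      intro w
      induction w with
      | nil => intro _; rfl
      | cons g w ih =>
        intro h
        rw [act_cons, act_cons, ih fun a ha => h a (List.mem_cons_of_mem _ ha),
          hXS g (h g List.mem_cons_self)]
    have hv1 : ∀ g ∈ (List.replicate 9 wordV).flatten, g ≠ 1 := by
      have h : ((List.replicate 9 wordV).flatten).all (fun g => !(Nat.beq g 1)) = true := by decide +kernel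
      intro g hg hg1
      subst hg1
      simpa using List.all_eq_true.1 h 1 hg
    rw [hx hv1, hl, show F.xS 0 = act F.xS [0] by simp [act_cons, act_nil]]
    refine F.eq_of_image (by decide +kernel) rfl ?_
    have hn : act ftGen relNine = 1 := relData_act (by simp [relData])
    rw [relNine, act_append, act_cons, act_nil, one_mul] at hn
    rw [act_cons, act_nil, one_mul]
    exact (inv_eq_of_mul_eq_one_right hn).symm.trans (inv_eq_of_mul_eq_one_right eltL_sq)
  have hR : act X eightRel = (l * K) ^ 3 := by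
    rw [eightRel, Fi23P.act_flatten, act_append, hV, act_cons, act_nil, one_mul, hX1]
  rw [hR] at hu'
  have hu1 : F.proj (F.Φ u) = 1 := by
    rw [← hu', map_mul, map_mul, map_inv, pf, mul_one, inv_mul_cancel]
  rw [F.inj_H hu1, mul_assoc, inv_mul_eq_one] at hu'
  exact mul_eq_right.1 hu'.symm

end Split

end CfsgLib.Fi24P.Triple
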