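import Cfsg.Agent.Lib.Fi24P.Triple.Gens

/-!
# Cosets over a full set of lifts
-/

set_option autoImplicit false
set_option maxRecDepth 100000

namespace CfsgLib.Fi24P.Triple

open CfsgLib.PresCert Cfsg.Spor

/-- An extension with lifts satisfying all relations but the last. -/
structure Lifted (M : Type) [Group M] extends Split M where
  k : M
  map_k : proj k = Fi24P.ftGen 1
  sq_k : k * k = 1
  comm_k : ∀ g, 2 < g → g < 12 → toSplit.xS g * k = k * toSplit.xS g
  cube_two : (toSplit.xS 2 * k) ^ 3 = 1
  cube_zero : (toSplit.xS 0 * k) ^ 3 = 1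

namespace Lifted

variable {M : Type} [Group M] (L : Lifted M)

/-- The lifts of all generators. -/
noncomputable def x (g : ℕ) : M := if g = 1 then L.k else L.xS g

theorem x_ne {g : ℕ} (h : g ≠ 1) : L.x g = L.xS g := if_neg h

theorem x_one : L.x 1 = L.k := if_pos rfl

theorem x_sq {g : ℕ} (hg : g < 12) : L.x g * L.x g = 1 := by
  by_cases h : g = 1
  · rw [h, x_one, L.sq_k]
  · rw [L.x_ne h, L.xS_sq hg h]

theorem x_map {g : ℕ} (hg : g < 12) : L.proj (L.x g) = ftGen g := by
  by_cases h : g = 1
  · rw [h, x_one, L.map_k]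
  · rw [L.x_ne h, L.map_xS hg h]

theorem x_comm {g h : ℕ} (hm : (g, h) ∈ commList) : L.x g * L.x h = L.x h * L.x g := by
  have hl : commList.all (fun p => !(Nat.beq p.2 1) && (!(Nat.beq p.1 1) || Nat.blt 2 p.2 && Nat.blt p.2 12)) = true := by
    decide +kernel
  have h' := List.all_eq_true.1 hl _ hm
  simp only [Bool.and_eq_true, Bool.or_eq_true, Bool.not_eq_true', Nat.blt_eq] at h'
  have h1 : h ≠ 1 := by rintro rfl; simpa using h'.1
  by_cases g1 : g = 1
  · subst g1
    obtain ⟨a, b⟩ := h'.2.resolve_left (by simp)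
    rw [x_one, L.x_ne h1, L.comm_k h a b]
  · rw [L.x_ne g1, L.x_ne h1, L.xS_comm hm g1 h1]

theorem braid_of_cube {a b : M} (ha : a * a = 1) (hb : b * b = 1) (h : (a * b) ^ 3 = 1) :
    a * b * a = b * a * b := by
  simp only [pow_succ, pow_zero, one_mul] at h
  calc a * b * a = a * b * (a * b) * (a * b) * (b * a * b) := by
        simp only [mul_assoc]
        rw [← mul_assoc b b, hb, one_mul, ← mul_assoc a a, ha, one_mul, hb, mul_one]
    _ = b * a * b := by rw [h, one_mul]

theorem x_braid {g h : ℕ} (hm : (g, h) ∈ braidList) :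
    L.x g * L.x h * L.x g = L.x h * L.x g * L.x h := by
  have hl : braidList.all (fun p => (!(Nat.beq p.2 1) || Nat.beq p.1 0) && (!(Nat.beq p.1 1) || Nat.beq p.2 2)) = true := by
    decide +kernel
  have h' := List.all_eq_true.1 hl _ hm
  simp only [Bool.and_eq_true, Bool.or_eq_true, Bool.not_eq_true', Nat.beq_eq] at h'
  by_cases g1 : g = 1
  · subst g1
    obtain rfl : h = 2 := h'.2.resolve_left (by simp)
    rw [x_one, L.x_ne (by norm_num)]
    exact (braid_of_cube (L.xS_sq (by norm_num) (by norm_num)) L.sq_k L.cube_two).symm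
  · by_cases h1 : h = 1
    · subst h1
      obtain rfl : g = 0 := h'.1.resolve_left (by simp)
      rw [x_one, L.x_ne (by norm_num)]
      exact braid_of_cube (L.xS_sq (by norm_num) (by norm_num)) L.sq_k L.cube_zero
    · rw [L.x_ne g1, L.x_ne h1, L.xS_braid hm g1 h1]

theorem act_x : ∀ {w : List ℕ}, hLetters w = true → act L.x w = act L.xS w
  | [], _ => rfl
  | g :: w, h => by
    obtain ⟨-, hg1⟩ := hLetters_spec h g List.mem_cons_self
    have hw : hLetters w = true := by
      simp only [hLetters, List.all_cons, Bool.and_eq_true] at h ⊢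
      exact h.2
    rw [act_cons, act_cons, act_x hw, L.x_ne hg1]

theorem proj_word : ∀ {w : List ℕ}, (∀ g ∈ w, g < 12) → L.proj (act L.x w) = act ftGen w
  | [], _ => by simp [act_nil]
  | g :: w, h => by
    rw [act_cons, act_cons, map_mul, proj_word fun a ha => h a (List.mem_cons_of_mem _ ha),
      L.x_map (h g List.mem_cons_self)]

theorem eq_of_sameElt {u v : List ℕ} (h : sameElt u v = true) : act L.x u = act L.x v := by
  have h' := h
  simp only [sameElt, Bool.and_eq_true] at h'
  rw [L.act_x h'.1.1.1, L.act_x h'.1.1.2]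
  exact L.eq_of_image h'.1.1.1 h'.1.1.2 (CfsgLib.Fi24P.eq_of_sameElt h)

theorem act_eq {w : List ℕ} (h : hLetters w = true) :
    act L.x w = L.Φ (act Fi23P.fiGen (projW w)) * L.s ^ w.length := by
  rw [L.act_x h, L.toSplit.act_eq h]

/-- The subgroup of the generators other than the second. -/
noncomputable def grpH : Subgroup M := genGrp hList L.x

/-- The cosets. -/
abbrev Pts : Type := M ⧸ L.grpH

/-- The base coset. -/
noncomputable def base : L.Pts := ((1 : M) : L.Pts)

theorem x_mem {g : ℕ} (hg : g < 12) (h1 : g ≠ 1) : L.x g ∈ L.grpH := by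
  refine Subgroup.subset_closure ⟨[g], ?_, by simp [act_cons, act_nil]⟩
  interval_cases g <;> first | exact absurd rfl h1 | decide

theorem act_memH {w : List ℕ} (h : hLetters w = true) : act L.x w ∈ L.grpH := by
  refine act_mem fun g hg => ?_
  obtain ⟨h1, h2⟩ := hLetters_spec h g hg
  interval_cases g <;> first | exact absurd rfl h2 | decide

theorem base_fix {m : M} (h : m ∈ L.grpH) : m • L.base = L.base := by
  rw [base, MulAction.Quotient.smul_coe, smul_eq_mul, mul_one, QuotientGroup.eq, mul_one]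
  exact inv_mem h

theorem mem_of_fix {m : M} (h : m • L.base = L.base) : m ∈ L.grpH := by
  rw [base, MulAction.Quotient.smul_coe, smul_eq_mul, mul_one, QuotientGroup.eq, mul_one] at h
  exact inv_mem_iff.1 h

theorem grpH_shape {m : M} (h : m ∈ L.grpH) : ∃ z, m = L.Φ z ∨ m = L.Φ z * L.s := by
  induction h using Subgroup.closure_induction with
  | mem t ht =>
    obtain ⟨w, hw, rfl⟩ := ht
    have hl : hLetters w = true := by
      simp only [hList, List.mem_cons, List.not_mem_nil, or_false] at hw
      rcases hw with rfl | rfl | rfl | rfl | rfl | rfl | rfl | rfl | rfl | rfl | rfl <;> rfl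
    refine ⟨act Fi23P.fiGen (projW w), ?_⟩
    rw [L.act_eq hl, L.toSplit.pow_s w.length]
    rcases Nat.mod_two_eq_zero_or_one w.length with e | e <;> rw [e]
    · exact Or.inl (by rw [pow_zero, mul_one])
    · exact Or.inr (by rw [pow_one])
  | one => exact ⟨1, Or.inl (map_one _).symm⟩
  | mul a b _ _ ha hb =>
    obtain ⟨y, ha⟩ := ha
    obtain ⟨z, hb⟩ := hb
    refine ⟨y * z, ?_⟩
    rcases ha with ha | ha <;> rcases hb with hb | hb <;> rw [ha, hb, map_mul]
    · exact Or.inl rfl
    · exact Or.inr (by rw [mul_assoc])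
    · exact Or.inr (by rw [mul_assoc, L.comm_s, ← mul_assoc])
    · exact Or.inl (by rw [mul_assoc, ← mul_assoc L.s, L.comm_s, mul_assoc, L.sq_s, mul_one])
  | inv a _ ha =>
    obtain ⟨y, ha | ha⟩ := ha
    · exact ⟨y⁻¹, Or.inl (by rw [ha, map_inv])⟩
    · exact ⟨y⁻¹, Or.inr (by rw [ha, mul_inv_rev, ← map_inv, L.s_inv, L.comm_s])⟩

theorem phi_mem (v : Cfsg.Spor.Fi23) : L.Φ v ∈ L.grpH := by
  have h : v ∈ genGrp ((List.range 10).map fun g => [g]) Fi23P.fiGen := by
    rw [Fi23P.closure_all]; exact Subgroup.mem_top v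
  induction h using Subgroup.closure_induction with
  | mem t ht =>
    obtain ⟨w, hw, rfl⟩ := ht
    obtain ⟨g, hg, rfl⟩ := List.mem_map.1 hw
    rw [List.mem_range] at hg
    have e : L.Φ (Fi23P.fiGen g) = L.x (g + 2) * L.x 0 := by
      rw [L.x_ne (by omega), L.x_ne (by norm_num), Split.xS, Split.xS, if_neg (by omega), if_pos rfl,
        mul_assoc, L.sq_s, mul_one]
      rfl
    rw [act_cons, act_nil, one_mul, e]
    exact mul_mem (L.x_mem (by omega) (by omega)) (L.x_mem (by norm_num) (by norm_num))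
  | one => rw [map_one]; exact one_mem _
  | mul a b _ _ ha hb => rw [map_mul]; exact mul_mem ha hb
  | inv a _ ha => rw [map_inv]; exact inv_mem ha

/-- The kernel meets the subgroup trivially. -/
theorem ker_inf {m : M} (h : m ∈ L.grpH) (hp : L.proj m = 1) : m = 1 := by
  obtain ⟨z, h | h⟩ := L.grpH_shape h
  · subst h; exact L.inj_H hp
  · exfalso
    have e := congrArg signHom hp
    rw [h, map_mul, map_mul, L.map_Φ, psi_sign, L.map_s, sign_eltL, one_mul, map_one] at e
    exact absurd e (by decide)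

/-- A kernel element fixing a coset is trivial. -/
theorem ker_fix {m : M} (hp : L.proj m = 1) {t : M} (h : m • t • L.base = t • L.base) : m = 1 := by
  rw [← mul_smul, ← inv_smul_eq_iff, ← mul_smul] at h
  have e := L.ker_inf (L.mem_of_fix h) (by rw [map_mul, map_mul, map_inv, hp, one_mul, inv_mul_cancel])
  rw [inv_mul_eq_one] at e
  exact mul_eq_right.1 e.symm

end Lifted

end CfsgLib.Fi24P.Triple
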