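import Cfsg.Agent.Lib.Fi24P.Triple.PhaseAll
import Cfsg.Agent.Lib.Fi24P.Perm
import Cfsg.Agent.Lib.Fi23P.MultLift
import Mathlib.Data.ZMod.Basic
import Mathlib.Tactic.LinearCombination

/-!
# The monomial action on three times 306936 points

All relations but the last hold; the product for the last one adds one to every phase.
-/

set_option autoImplicit false
set_option maxRecDepth 100000

namespace CfsgLib.Fi24P.Triple

open CfsgLib.PresCert Cfsg.Spor

theorem force_eq {α : Type} (x : ℕ) (k : ℕ → α) : force x k = k x := by cases x <;> rfl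

theorem pairAt_eq (q q0 q1 q2 q3 q4 q5 q6 q7 q8 q9 q10 q11 : ℕ) :
    phPairAt q q0 q1 q2 q3 q4 q5 q6 q7 q8 q9 q10 q11 =
      (((List.range 12).map fun g =>
        Nat.beq (pf ([q0, q1, q2, q3, q4, q5, q6, q7, q8, q9, q10, q11].getD g 0) g) (pf q g)) ++
        commList.map fun p => Nat.beq
          (Nat.mod (Nat.add (pf ([q0, q1, q2, q3, q4, q5, q6, q7, q8, q9, q10, q11].getD p.1 0) p.2) (pf q p.2)) 3)
          (Nat.mod (Nat.add (pf ([q0, q1, q2, q3, q4, q5, q6, q7, q8, q9, q10, q11].getD p.2 0) p.1) (pf q p.1)) 3)).all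
        fun b => b := rfl

theorem braidPh_eq (i : ℕ) : phBraidAt i = braidList.all fun p =>
    Nat.beq (phWalk [p.1, p.2, p.1] i 0) (phWalk [p.2, p.1, p.2] i 0) := rfl

theorem ph_chk {i : ℕ} (hi : i < 306936) : phChk i = true := by
  have h := loop_spec _ _ (phases_all (b := i / 1000) (by omega))
    (Nat.mod_lt i (by norm_num : 1000 > 0))
  rw [Nat.div_add_mod, Nat.blt_eq.mpr hi, Bool.not_true, Bool.false_or] at h
  exact h

variable {i : ℕ}

theorem short_spec (hi : i < 306936) : (∀ g < 12, ph g (img g i) = ph g i) ∧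
    ∀ p ∈ commList, (ph p.2 (img p.1 i) + ph p.2 i) % 3 = (ph p.1 (img p.2 i) + ph p.1 i) % 3 := by
  have h := ph_chk hi
  simp only [phChk, force_eq, Bool.and_eq_true, phShortAt, pairAt_eq, List.all_append,
    List.all_map, List.all_eq_true, Function.comp_apply, List.mem_range, Nat.beq_eq] at h
  obtain ⟨⟨⟨h1, h2⟩, -⟩, -⟩ := h
  have hget : ∀ g < 12, [phase (fld (row i) 0), phase (fld (row i) 1), phase (fld (row i) 2),
      phase (fld (row i) 3), phase (fld (row i) 4), phase (fld (row i) 5), phase (fld (row i) 6),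
      phase (fld (row i) 7), phase (fld (row i) 8), phase (fld (row i) 9), phase (fld (row i) 10),
      phase (fld (row i) 11)].getD g 0 = phase (img g i) := by
    intro g hg
    interval_cases g <;> rfl
  have hlt : (commList.all fun p => Nat.blt p.1 12 && Nat.blt p.2 12) = true := by decide +kernel
  simp only [List.all_eq_true, Bool.and_eq_true, Nat.blt_eq] at hlt
  refine ⟨fun g hg => ?_, fun p hp => ?_⟩
  · have := h1 g hg
    rw [hget g hg] at this
    exact this
  · have := h2 p hp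
    rw [hget p.1 (hlt p hp).1, hget p.2 (hlt p hp).2] at this
    exact this

theorem braid_ph (hi : i < 306936) {p : ℕ × ℕ} (hp : p ∈ braidList) :
    phWalk [p.1, p.2, p.1] i 0 = phWalk [p.2, p.1, p.2] i 0 := by
  have h := ph_chk hi
  simp only [phChk, force_eq, Bool.and_eq_true, braidPh_eq, List.all_eq_true, Nat.beq_eq] at h
  exact h.1.2 p hp

theorem pow_ph (hi : i < 306936) :
    pf (phase i) 12 = phWalk wordV i 0 ∧ sumV 9 i 0 = pf (phase i) 0 ∧
    pf (phase i) 13 = phWalk wordU i 0 ∧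
    pf (phase i) 14 = (pf (phase i) 13 + pf (phase (colU i)) 13) % 3 ∧ sumU 8 i 0 = 1 := by
  have h := ph_chk hi
  simp only [phChk, force_eq, Bool.and_eq_true, phPowAt, Nat.beq_eq] at h
  obtain ⟨⟨⟨⟨a, b⟩, c⟩, d⟩, e⟩ := h.2
  exact ⟨a, b, c, d, e⟩

/-- The points with phases. -/
abbrev Omega : Type := Fin tab.n × ZMod 3

/-- The image of a point with phase. -/
noncomputable def monoFun (g : ℕ) (hg : g < 12) (p : Omega) : Omega :=
  (⟨img g p.1, (img_spec hg p.1.2).1⟩, (ph g p.1 : ZMod 3) - p.2)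

theorem monoFun_invol (g : ℕ) (hg : g < 12) : Function.Involutive (monoFun g hg) := fun p => by
  refine Prod.ext (Fin.ext (img_spec hg p.1.2).2.1) ?_
  show (ph g (img g p.1) : ZMod 3) - ((ph g p.1 : ZMod 3) - p.2) = p.2
  rw [(short_spec p.1.2).1 g hg]
  ring

/-- The monomial generators. -/
noncomputable def mono (g : ℕ) : Equiv.Perm Omega :=
  if hg : g < 12 then (monoFun_invol g hg).toPerm (monoFun g hg) else 1

theorem mono_apply {g : ℕ} (hg : g < 12) (p : Omega) : mono g p = monoFun g hg p := by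
  rw [mono, dif_pos hg]; rfl

theorem mono_sq {g : ℕ} (hg : g < 12) : mono g * mono g = 1 := Equiv.ext fun p => by
  rw [Equiv.Perm.mul_apply, mono_apply hg, mono_apply hg, monoFun_invol g hg p]; rfl

theorem phWalk_nil (i t : ℕ) : phWalk [] i t = t % 3 := rfl

theorem phWalk_cons (g : ℕ) (w : List ℕ) (i t : ℕ) :
    phWalk (g :: w) i t = phWalk w (img g i) (pf (phase i) g + 2 * t) :=
  force_eq i fun j => phWalk w (img g j) (Nat.add (pf (phase j) g) (Nat.mul 2 t))

theorem two_eq : (2 : ZMod 3) = -1 := by decide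

theorem act_mono : ∀ {w : List ℕ}, (∀ g ∈ w, g < 12) → ∀ {i : ℕ} (hi : i < tab.n) (t : ℕ),
    ((act mono w (⟨i, hi⟩, (t : ZMod 3))).1 : ℕ) = tab.walk i w ∧
      (act mono w (⟨i, hi⟩, (t : ZMod 3))).2 = (phWalk w i t : ZMod 3)
  | [], _, i, hi, t => ⟨rfl, by rw [phWalk_nil, ZMod.natCast_mod]; rfl⟩
  | g :: w, hw, i, hi, t => by
    have hg := hw g List.mem_cons_self
    have hi' : img g i < tab.n := (img_spec hg hi).1
    have e : mono g (⟨i, hi⟩, (t : ZMod 3)) =
        (⟨img g i, hi'⟩, ((pf (phase i) g + 2 * t : ℕ) : ZMod 3)) := by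
      rw [mono_apply hg]
      refine Prod.ext rfl ?_
      show (ph g i : ZMod 3) - (t : ZMod 3) = _
      rw [Nat.cast_add, Nat.cast_mul, Nat.cast_two, two_eq, ph]
      ring
    rw [act_cons, Equiv.Perm.mul_apply, e, phWalk_cons]
    exact act_mono (fun a ha => hw a (List.mem_cons_of_mem _ ha)) hi' _

theorem phWalk_affine : ∀ (w : List ℕ) (i t : ℕ),
    (phWalk w i t : ZMod 3) = (phWalk w i 0 : ZMod 3) + (-1) ^ w.length * (t : ZMod 3)
  | [], i, t => by simp [phWalk_nil, ZMod.natCast_mod]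
  | g :: w, i, t => by
    rw [phWalk_cons, phWalk_cons, phWalk_affine w _ (pf (phase i) g + 2 * t),
      phWalk_affine w _ (pf (phase i) g + 2 * 0), List.length_cons, pow_succ, Nat.cast_add,
      Nat.cast_add, Nat.cast_mul, Nat.cast_mul, Nat.cast_two, two_eq]
    push_cast
    ring

theorem mono_ext {u v : Equiv.Perm Omega}
    (h : ∀ (i : ℕ) (hi : i < tab.n) (t : ℕ), u (⟨i, hi⟩, (t : ZMod 3)) = v (⟨i, hi⟩, (t : ZMod 3))) :
    u = v := Equiv.ext fun ⟨⟨i, hi⟩, t⟩ => by
  have := h i hi t.val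
  rwa [ZMod.natCast_rightInverse t] at this

theorem mono_comm {p : ℕ × ℕ} (hp : p ∈ commList) : mono p.1 * mono p.2 = mono p.2 * mono p.1 := by
  have hlt : (commList.all fun p => Nat.blt p.1 12 && Nat.blt p.2 12) = true := by decide +kernel
  simp only [List.all_eq_true, Bool.and_eq_true, Nat.blt_eq] at hlt
  obtain ⟨hg, hh⟩ := hlt p hp
  refine mono_ext fun i hi t => ?_
  simp only [Equiv.Perm.mul_apply, mono_apply hg, mono_apply hh, monoFun]
  refine Prod.ext (Fin.ext (comm_spec (pt_chk hi) hp).symm) ?_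
  have h := congrArg (fun n : ℕ => (n : ZMod 3)) ((short_spec hi).2 p hp)
  simp only [ZMod.natCast_mod, Nat.cast_add] at h
  show (ph p.1 (img p.2 i) : ZMod 3) - ((ph p.2 i : ZMod 3) - t) =
    (ph p.2 (img p.1 i) : ZMod 3) - ((ph p.1 i : ZMod 3) - t)
  linear_combination -h

theorem mono_braid {p : ℕ × ℕ} (hp : p ∈ braidList) :
    mono p.1 * mono p.2 * mono p.1 = mono p.2 * mono p.1 * mono p.2 := by
  have hlt : (braidList.all fun p => Nat.blt p.1 12 && Nat.blt p.2 12) = true := by decide +kernel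
  simp only [List.all_eq_true, Bool.and_eq_true, Nat.blt_eq] at hlt
  obtain ⟨hg, hh⟩ := hlt p hp
  have e : ∀ a b : ℕ, mono a * mono b * mono a = act mono [a, b, a] := fun a b => by
    simp [act_cons, act_nil]
  rw [e, e]
  refine mono_ext fun i hi t => ?_
  have h1 : ∀ g ∈ [p.1, p.2, p.1], g < 12 := by simp [hg, hh]
  have h2 : ∀ g ∈ [p.2, p.1, p.2], g < 12 := by simp [hg, hh]
  obtain ⟨a1, a2⟩ := act_mono h1 hi t
  obtain ⟨b1, b2⟩ := act_mono h2 hi t
  refine Prod.ext (Fin.ext ?_) ?_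
  · rw [a1, b1]
    exact (braid_spec (pt_chk hi) hp)
  · rw [a2, b2, phWalk_affine _ i t, phWalk_affine [p.2, p.1, p.2] i t, braid_ph hi hp]
    rfl

theorem colV_lt (hi : i < 306936) : colV i < 306936 := by
  rw [(pow_spec (pt_chk hi)).1]; exact walk_lt (by decide) hi

theorem colU_lt (hi : i < 306936) : colU i < 306936 := by
  rw [(pow_spec (pt_chk hi)).2.2.1]; exact walk_lt (by decide) hi

theorem colU2_lt (hi : i < 306936) : colU2 i < 306936 := by
  rw [(pow_spec (pt_chk hi)).2.2.2.1]; exact colU_lt (colU_lt hi)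

theorem sumV_succ (m i t : ℕ) :
    sumV (m + 1) i t = sumV m (colV i) (pf (phase i) 12 + 2 * t) :=
  force_eq i fun j => sumV m (colV j) (Nat.add (pf (phase j) 12) (Nat.mul 2 t))

theorem sumU_succ (m i t : ℕ) :
    sumU (m + 1) i t = sumU m (colU2 i) (t + pf (phase i) 14) :=
  force_eq i fun j => sumU m (colU2 j) (Nat.add t (pf (phase j) 14))

theorem powV : ∀ (m : ℕ) {i : ℕ} (hi : i < tab.n) (t : ℕ),
    ((((act mono wordV) ^ m) (⟨i, hi⟩, (t : ZMod 3))).1 : ℕ) = colV^[m] i ∧
      (((act mono wordV) ^ m) (⟨i, hi⟩, (t : ZMod 3))).2 = (sumV m i t : ZMod 3)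
  | 0, i, hi, t => ⟨rfl, by
      show (t : ZMod 3) = ((t % 3 : ℕ) : ZMod 3)
      rw [ZMod.natCast_mod]⟩
  | m + 1, i, hi, t => by
    obtain ⟨a1, a2⟩ := act_mono (w := wordV) (by decide) hi t
    have e : act mono wordV (⟨i, hi⟩, (t : ZMod 3)) =
        (⟨colV i, colV_lt hi⟩, ((pf (phase i) 12 + 2 * t : ℕ) : ZMod 3)) := by
      refine Prod.ext (Fin.ext (a1.trans (pow_spec (pt_chk hi)).1.symm)) ?_
      rw [a2, phWalk_affine, ← (pow_ph hi).1, Nat.cast_add, Nat.cast_mul, Nat.cast_two, two_eq]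
      norm_num [wordV]
    rw [pow_succ, Equiv.Perm.mul_apply, e, Function.iterate_succ_apply, sumV_succ]
    exact powV m (colV_lt hi) _

theorem stepU {i : ℕ} (hi : i < tab.n) (t : ℕ) :
    act mono wordU (⟨i, hi⟩, (t : ZMod 3)) =
      (⟨colU i, colU_lt hi⟩, ((t + pf (phase i) 13 : ℕ) : ZMod 3)) := by
  obtain ⟨a1, a2⟩ := act_mono (w := wordU) (by decide) hi t
  refine Prod.ext (Fin.ext (a1.trans (pow_spec (pt_chk hi)).2.2.1.symm)) ?_
  rw [a2, phWalk_affine, ← (pow_ph hi).2.2.1, Nat.cast_add]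
  norm_num [wordU]
  ring

theorem powU : ∀ (m : ℕ) {i : ℕ} (hi : i < tab.n) (t : ℕ),
    ((((act mono wordU) ^ (2 * m + 1)) (⟨i, hi⟩, (t : ZMod 3))).1 : ℕ) = colU (colU2^[m] i) ∧
      (((act mono wordU) ^ (2 * m + 1)) (⟨i, hi⟩, (t : ZMod 3))).2 = (sumU m i t : ZMod 3)
  | 0, i, hi, t => by
    rw [Nat.mul_zero, Nat.zero_add, pow_one, stepU hi t]
    refine ⟨rfl, ?_⟩
    show _ = (((t + pf (phase i) 13) % 3 : ℕ) : ZMod 3)
    rw [ZMod.natCast_mod]
  | m + 1, i, hi, t => by
    have e : act mono wordU (act mono wordU (⟨i, hi⟩, (t : ZMod 3))) =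
        (⟨colU2 i, colU2_lt hi⟩, ((t + pf (phase i) 14 : ℕ) : ZMod 3)) := by
      rw [stepU hi t, stepU (colU_lt hi)]
      refine Prod.ext (Fin.ext (pow_spec (pt_chk hi)).2.2.2.1.symm) ?_
      have h := congrArg (fun n : ℕ => (n : ZMod 3)) (pow_ph hi).2.2.2.1
      simp only [ZMod.natCast_mod, Nat.cast_add] at h
      push_cast
      linear_combination -h
    rw [show 2 * (m + 1) + 1 = 2 * m + 1 + 1 + 1 by ring, pow_succ, pow_succ, Equiv.Perm.mul_apply,
      Equiv.Perm.mul_apply, e, Function.iterate_succ_apply, sumU_succ]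
    exact powU m (colU2_lt hi) _

theorem mono_nine : act mono relNine = 1 := by
  rw [relNine, act_append, act_cons, act_nil, one_mul]
  have hV : act mono (List.replicate 9 wordV).flatten = mono 0 := by
    rw [Fi23P.act_flatten]
    refine mono_ext fun i hi t => ?_
    obtain ⟨a1, a2⟩ := powV 9 hi t
    rw [mono_apply (by norm_num : 0 < 12)]
    refine Prod.ext (Fin.ext (a1.trans (pow_spec (pt_chk hi)).2.1)) ?_
    rw [a2]
    have haff : ∀ (m i t : ℕ), (sumV m i t : ZMod 3) = (sumV m i 0 : ZMod 3) + (-1) ^ m * (t : ZMod 3) := by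
      intro m
      induction m with
      | zero =>
        intro i t
        show ((t % 3 : ℕ) : ZMod 3) = ((0 % 3 : ℕ) : ZMod 3) + _
        simp [ZMod.natCast_mod]
      | succ m ih =>
        intro i t
        rw [sumV_succ, sumV_succ, ih, ih (colV i) (pf (phase i) 12 + 2 * 0), pow_succ, Nat.cast_add,
          Nat.cast_add, Nat.cast_mul, Nat.cast_mul, Nat.cast_two, two_eq]
        push_cast
        ring
    rw [haff, (pow_ph hi).2.1]
    show (pf (phase i) 0 : ZMod 3) + (-1) ^ 9 * (t : ZMod 3) = (ph 0 i : ZMod 3) - (t : ZMod 3)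
    rw [ph]
    ring
  rw [hV, mono_sq (by norm_num)]

/-- The last product adds one to every phase. -/
theorem mono_seventeen (p : Omega) : act mono relSeventeen p = (p.1, p.2 + 1) := by
  obtain ⟨⟨i, hi⟩, t⟩ := p
  rw [relSeventeen, Fi23P.act_flatten, ← ZMod.natCast_rightInverse t]
  obtain ⟨a1, a2⟩ := powU 8 hi t.val
  refine Prod.ext (Fin.ext ?_) ?_
  · exact a1.trans (pow_spec (pt_chk hi)).2.2.2.2
  · rw [show (17 : ℕ) = 2 * 8 + 1 from rfl, a2]
    have haff : ∀ (m i t : ℕ), (sumU m i t : ZMod 3) = (sumU m i 0 : ZMod 3) + (t : ZMod 3) := by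
      intro m
      induction m with
      | zero =>
        intro i t
        show (((t + pf (phase i) 13) % 3 : ℕ) : ZMod 3) = (((0 + pf (phase i) 13) % 3 : ℕ) : ZMod 3) + _
        simp [ZMod.natCast_mod, add_comm]
      | succ m ih =>
        intro i t
        rw [sumU_succ, sumU_succ, ih, ih (colU2 i) (0 + pf (phase i) 14)]
        push_cast
        ring
    rw [haff, (pow_ph hi).2.2.2.2, Nat.cast_one, add_comm]

end CfsgLib.Fi24P.Triple
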