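import Cfsg.Agent.Lib.Fi24P.Triple.Mono
import Cfsg.Agent.Lib.Fi24P.Triple.Bound
import Cfsg.Agent.Lib.Known.SplitLift.Assembly
import Mathlib.GroupTheory.SpecificGroups.Cyclic

/-!
# The triple cover and the multiplier of the index two subgroup
-/

set_option autoImplicit false
set_option maxRecDepth 100000

namespace CfsgLib.Fi24P.Triple

open CfsgLib.PresCert Cfsg.Spor
open scoped commutatorElement

/-- A generator with its monomial action. -/
noncomputable def qPair (g : ℕ) : Cfsg.Spor.Fi24 × Equiv.Perm Omega := (ftGen g, mono g)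

/-- The group generated by the pairs. -/
noncomputable def covGrp : Subgroup (Cfsg.Spor.Fi24 × Equiv.Perm Omega) :=
  Subgroup.closure {m | ∃ g < 12, m = qPair g}

/-- The generators of the cover. -/
noncomputable def cGen (g : ℕ) : covGrp :=
  if hg : g < 12 then ⟨qPair g, Subgroup.subset_closure ⟨g, hg, rfl⟩⟩ else 1

theorem cGen_val {g : ℕ} (hg : g < 12) : (cGen g).1 = qPair g := by rw [cGen, dif_pos hg]

theorem act_cGen : ∀ {w : List ℕ}, (∀ g ∈ w, g < 12) →
    (act cGen w).1 = (act ftGen w, act mono w)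
  | [], _ => rfl
  | g :: w, h => by
    rw [act_cons, Subgroup.coe_mul, act_cGen fun a ha => h a (List.mem_cons_of_mem _ ha),
      cGen_val (h g List.mem_cons_self), qPair, Prod.mk_mul_mk, act_cons, act_cons]

theorem cGen_sq {g : ℕ} (hg : g < 12) : cGen g * cGen g = 1 := Subtype.ext (by
  rw [Subgroup.coe_mul, cGen_val hg, qPair, Prod.mk_mul_mk, ftGen_sq g hg, mono_sq hg]; rfl)

theorem cGen_comm {p : ℕ × ℕ} (hp : p ∈ commList) : cGen p.1 * cGen p.2 = cGen p.2 * cGen p.1 := by
  have hlt : (commList.all fun p => Nat.blt p.1 12 && Nat.blt p.2 12) = true := by decide +kernel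
  simp only [List.all_eq_true, Bool.and_eq_true, Nat.blt_eq] at hlt
  obtain ⟨hg, hh⟩ := hlt p hp
  refine Subtype.ext ?_
  simp only [Subgroup.coe_mul, cGen_val hg, cGen_val hh, qPair, Prod.mk_mul_mk, gen_comm hp,
    mono_comm hp]

theorem cGen_braid {p : ℕ × ℕ} (hp : p ∈ braidList) :
    cGen p.1 * cGen p.2 * cGen p.1 = cGen p.2 * cGen p.1 * cGen p.2 := by
  have hlt : (braidList.all fun p => Nat.blt p.1 12 && Nat.blt p.2 12) = true := by decide +kernel
  simp only [List.all_eq_true, Bool.and_eq_true, Nat.blt_eq] at hlt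
  obtain ⟨hg, hh⟩ := hlt p hp
  refine Subtype.ext ?_
  simp only [Subgroup.coe_mul, cGen_val hg, cGen_val hh, qPair, Prod.mk_mul_mk, gen_braid hp,
    mono_braid hp]

/-- The projection. -/
noncomputable def covProj : covGrp →* Cfsg.Spor.Fi24 :=
  (MonoidHom.fst _ _).comp covGrp.subtype

theorem covProj_gen {g : ℕ} (hg : g < 12) : covProj (cGen g) = ftGen g := by
  show (cGen g).1.1 = _
  rw [cGen_val hg, qPair]

/-- The central element. -/
noncomputable def cZ : covGrp := act cGen relSeventeen

theorem rel_lt {w : List ℕ} (hw : w ∈ [relNine, relSeventeen]) : ∀ g ∈ w, g < 12 :=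
  relData_lt (by
    simp only [List.mem_cons, List.not_mem_nil, or_false] at hw
    rcases hw with rfl | rfl <;> simp [relData])

theorem cZ_val : cZ.1 = (1, act mono relSeventeen) := by
  rw [cZ, act_cGen (rel_lt (by simp)), relData_act (by simp [relData])]

theorem cGen_nine : act cGen relNine = 1 := Subtype.ext (by
  rw [act_cGen (rel_lt (by simp)), relData_act (by simp [relData]), mono_nine]; rfl)

theorem shift_cube {S : Equiv.Perm Omega} (hS : ∀ p, S p = (p.1, p.2 + 1)) : S ^ 3 = 1 :=
  Equiv.ext fun p => by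
    simp only [pow_succ, pow_zero, one_mul, Equiv.Perm.mul_apply, hS, Equiv.Perm.one_apply]
    refine Prod.ext rfl ?_
    show p.2 + 1 + 1 + 1 = p.2
    rw [add_assoc, add_assoc, show (1 + (1 + 1) : ZMod 3) = 0 by decide, add_zero]

theorem pair_cube {G H : Type*} [Group G] [Group H] {S : H} (h : S ^ 3 = 1) :
    ((1 : G), S) ^ 3 = 1 := by
  rw [Prod.pow_mk, one_pow, h]; rfl

theorem coe_cube {G : Type*} [Group G] {K : Subgroup G} {x : K} {y : G} (hx : (x : G) = y)
    (h : y ^ 3 = 1) : x ^ 3 = 1 := Subtype.ext (by rw [Subgroup.coe_pow, hx, h]; rfl)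

theorem cZ_cube : cZ ^ 3 = 1 :=
  coe_cube (G := Cfsg.Spor.Fi24 × Equiv.Perm Omega) cZ_val (pair_cube (shift_cube mono_seventeen))

theorem cZ_ne : cZ ≠ 1 := fun h => by
  have h' := congrArg (fun m : covGrp => m.1.2 (⟨0, zero_lt⟩, (0 : ZMod 3))) h
  have hS := mono_seventeen
  simp only [cZ_val] at h'
  generalize act mono relSeventeen = S at hS h'
  simp only [hS] at h'
  exact absurd (congrArg Prod.snd h') (by show ¬((0 : ZMod 3) + 1 = 0); decide)

theorem cGen_conj {g : ℕ} (hg : g < 12) : cGen g * cZ * (cGen g)⁻¹ = cZ⁻¹ := by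
  rw [inv_eq_of_mul_eq_one_right (cGen_sq hg)]
  refine eq_inv_of_mul_eq_one_left (Subtype.ext ?_)
  simp only [Subgroup.coe_mul, cGen_val hg, cZ_val, qPair, Prod.mk_mul_mk, mul_one, ftGen_sq g hg]
  have hS := mono_seventeen
  generalize act mono relSeventeen = S at hS ⊢
  refine Prod.ext rfl (Equiv.ext fun p => ?_)
  simp only [Equiv.Perm.mul_apply, hS, mono_apply hg, monoFun]
  refine Prod.ext (Fin.ext (img_spec hg p.1.2).2.1) ?_
  show (ph g (img g p.1) : ZMod 3) - ((ph g p.1 : ZMod 3) - (p.2 + 1) + 1) = p.2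
  rw [(short_spec p.1.2).1 g hg]
  ring

theorem cov_conj (m : covGrp) : m * cZ * m⁻¹ = cZ ∨ m * cZ * m⁻¹ = cZ⁻¹ := by
  obtain ⟨m, hm⟩ := m
  induction hm using Subgroup.closure_induction with
  | mem t ht =>
    obtain ⟨g, hg, rfl⟩ := ht
    refine Or.inr ?_
    have e : (⟨qPair g, Subgroup.subset_closure ⟨g, hg, rfl⟩⟩ : covGrp) = cGen g :=
      Subtype.ext (cGen_val hg).symm
    rw [e, cGen_conj hg]
  | one => exact Or.inl (by simp [show (⟨1, one_mem _⟩ : covGrp) = 1 from rfl])
  | mul a b ha hb iha ihb =>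
    rw [show (⟨a * b, mul_mem ha hb⟩ : covGrp) = ⟨a, ha⟩ * ⟨b, hb⟩ from rfl]
    generalize (⟨a, ha⟩ : covGrp) = x at iha
    generalize (⟨b, hb⟩ : covGrp) = y at ihb
    have e : x * y * cZ * (x * y)⁻¹ = x * (y * cZ * y⁻¹) * x⁻¹ := by group
    rw [e]
    rcases ihb with h | h <;> rw [h] <;> rcases iha with h' | h'
    · exact Or.inl h'
    · exact Or.inr h'
    · exact Or.inr (by rw [← conj_inv, h'])
    · exact Or.inl (by rw [← conj_inv, h', inv_inv])
  | inv a ha iha =>
    rw [show (⟨a⁻¹, inv_mem ha⟩ : covGrp) = ⟨a, ha⟩⁻¹ from rfl, inv_inv]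
    generalize (⟨a, ha⟩ : covGrp) = x at iha
    rcases iha with h | h
    · refine Or.inl ?_
      calc x⁻¹ * cZ * x = x⁻¹ * (x * cZ * x⁻¹) * x := by rw [h]
        _ = cZ := by group
    · refine Or.inr ?_
      calc x⁻¹ * cZ * x = x⁻¹ * (x * cZ * x⁻¹)⁻¹ * x := by rw [h, inv_inv]
        _ = cZ⁻¹ := by group

theorem ker_covProj : covProj.ker = Subgroup.zpowers cZ := by
  refine le_antisymm ?_ (Subgroup.zpowers_le.2 (by
    show cZ.1.1 = 1
    rw [cZ_val]))
  let N : Subgroup covGrp := Subgroup.zpowers cZ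
  haveI : N.Normal := ⟨fun a ha g => by
    obtain ⟨n, rfl⟩ := Subgroup.mem_zpowers_iff.1 ha
    rw [← conj_zpow]
    refine Subgroup.zpow_mem _ ?_ n
    rcases cov_conj g with h | h <;> rw [h]
    · exact Subgroup.mem_zpowers _
    · exact inv_mem (Subgroup.mem_zpowers _)⟩
  let q : ℕ → covGrp ⧸ N := fun g => QuotientGroup.mk' N (cGen g)
  have hq : ∀ w, act q w = QuotientGroup.mk' N (act cGen w) := by
    intro w
    induction w with
    | nil => simp [act_nil]
    | cons g w ih => rw [act_cons, act_cons, map_mul, ih]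
  obtain ⟨f, hf⟩ := exists_hom q
    (fun g hg => by simp only [q, ← map_mul, cGen_sq hg, map_one])
    (fun p hp => by simp only [q, ← map_mul]; rw [cGen_comm hp])
    (fun p hp => by simp only [q, ← map_mul]; rw [cGen_braid hp])
    (by rw [hq, cGen_nine, map_one])
    (by rw [hq]; exact (QuotientGroup.eq_one_iff _).2 (Subgroup.mem_zpowers _))
  have hall : ∀ m : covGrp, f (covProj m) = QuotientGroup.mk' N m := by
    rintro ⟨m, hm⟩
    induction hm using Subgroup.closure_induction with
    | mem t ht =>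
      obtain ⟨g, hg, rfl⟩ := ht
      have e : (⟨qPair g, Subgroup.subset_closure ⟨g, hg, rfl⟩⟩ : covGrp) = cGen g :=
        Subtype.ext (cGen_val hg).symm
      rw [e, covProj_gen hg, hf g hg]
    | one => rw [show (⟨1, one_mem _⟩ : covGrp) = 1 from rfl, map_one, map_one, map_one]
    | mul a b ha hb iha ihb =>
      rw [show (⟨a * b, mul_mem ha hb⟩ : covGrp) = ⟨a, ha⟩ * ⟨b, hb⟩ from rfl, map_mul, map_mul,
        map_mul, iha, ihb]
    | inv a ha iha =>
      rw [show (⟨a⁻¹, inv_mem ha⟩ : covGrp) = ⟨a, ha⟩⁻¹ from rfl, map_inv, map_inv, map_inv, iha]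
  intro m hm
  have h := hall m
  rw [MonoidHom.mem_ker.1 hm, map_one] at h
  exact (QuotientGroup.eq_one_iff m).1 h.symm

theorem covProj_surjective : Function.Surjective covProj := by
  intro m
  have hm : m ∈ genGrp ((List.range 12).map fun g => [g]) ftGen := by
    rw [closure_all]; exact Subgroup.mem_top m
  induction hm using Subgroup.closure_induction with
  | mem t ht =>
    obtain ⟨w, hw, rfl⟩ := ht
    obtain ⟨g, hg, rfl⟩ := List.mem_map.1 hw
    exact ⟨cGen g, by rw [covProj_gen (List.mem_range.1 hg), act_cons, act_nil, one_mul]⟩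
  | one => exact ⟨1, map_one _⟩
  | mul a b _ _ ha hb =>
    obtain ⟨x, rfl⟩ := ha
    obtain ⟨y, rfl⟩ := hb
    exact ⟨x * y, map_mul _ _ _⟩
  | inv a _ ha =>
    obtain ⟨x, rfl⟩ := ha
    exact ⟨x⁻¹, map_inv _ _⟩

/-- The derived group of the cover. -/
noncomputable abbrev covD : Subgroup covGrp := commutator covGrp

theorem covD_comm {m : covGrp} (hm : m ∈ covD) : m * cZ = cZ * m := by
  have hle : covD ≤ Subgroup.centralizer {cZ} := by
    refine Subgroup.commutator_le.2 fun a _ b _ => ?_
    rw [Subgroup.mem_centralizer_singleton_iff, ← mul_inv_eq_iff_eq_mul, ← MulAut.conj_apply,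
      commutatorElement_def, map_mul MulAut.conj, map_mul MulAut.conj, map_mul MulAut.conj,
      MulAut.mul_apply, MulAut.mul_apply, MulAut.mul_apply]
    have ci : ∀ x : covGrp, (x * cZ * x⁻¹ = cZ ∧ x⁻¹ * cZ * x⁻¹⁻¹ = cZ) ∨
        (x * cZ * x⁻¹ = cZ⁻¹ ∧ x⁻¹ * cZ * x⁻¹⁻¹ = cZ⁻¹) := by
      intro x
      rcases cov_conj x with h | h
      · refine Or.inl ⟨h, ?_⟩
        calc x⁻¹ * cZ * x⁻¹⁻¹ = x⁻¹ * (x * cZ * x⁻¹) * x⁻¹⁻¹ := by rw [h]
          _ = cZ := by group
      · refine Or.inr ⟨h, ?_⟩
        calc x⁻¹ * cZ * x⁻¹⁻¹ = x⁻¹ * (x * cZ * x⁻¹)⁻¹ * x⁻¹⁻¹ := by rw [h]; simp only [inv_inv]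
          _ = cZ⁻¹ := by group
    have hmi : ∀ x y : covGrp, MulAut.conj x y⁻¹ = (MulAut.conj x y)⁻¹ := fun x y =>
      map_inv (MulAut.conj x) y
    simp only [← MulAut.conj_apply] at ci
    rcases ci a with ⟨h1, h2⟩ | ⟨h1, h2⟩ <;> rcases ci b with ⟨h3, h4⟩ | ⟨h3, h4⟩ <;>
      simp only [h4, h2, h3, h1, hmi, inv_inv]
  exact (Subgroup.mem_centralizer_singleton_iff.1 (hle hm))

/-- The map to the index two subgroup. -/
noncomputable def covMap : covD →* comG :=
  (covProj.comp covD.subtype).codRestrict comG fun m => by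
    have h := Subgroup.mem_map_of_mem covProj m.2
    have e : covD.map covProj = comG := by
      rw [show covD = commutator covGrp from rfl, commutator_def, Subgroup.map_commutator,
        Subgroup.map_top_of_surjective _ covProj_surjective, ← commutator_def]
    exact e ▸ h

theorem covMap_surjective : Function.Surjective covMap := by
  rintro ⟨m, hm⟩
  have h : m ∈ covD.map covProj := by
    rw [show covD = commutator covGrp from rfl, commutator_def, Subgroup.map_commutator,
      Subgroup.map_top_of_surjective _ covProj_surjective,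
      ← commutator_def]
    exact hm
  obtain ⟨x, hx, rfl⟩ := h
  exact ⟨⟨x, hx⟩, rfl⟩

theorem ker_covMap {m : covD} (hm : covMap m = 1) : (m : covGrp) ∈ Subgroup.zpowers cZ :=
  ker_covProj ▸ MonoidHom.mem_ker.2 (congrArg Subtype.val hm)

theorem covMap_central : covMap.ker ≤ Subgroup.center covD := fun m hm =>
  Subgroup.mem_center_iff.2 fun d => Subtype.ext (by
    obtain ⟨n, hn⟩ := Subgroup.mem_zpowers_iff.1 (ker_covMap hm)
    show (d : covGrp) * m = m * d
    rw [← hn]
    exact (Commute.zpow_right (show Commute (d : covGrp) cZ from covD_comm d.2) n).eq)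

theorem cZ_mem_two : cZ ∈ ⁅covD, covD⁆ := by
  haveI : (⁅covD, covD⁆).Normal := Subgroup.commutator_normal covD covD
  let q := QuotientGroup.mk' ⁅covD, covD⁆
  have hperf : commutator comG = ⊤ := by
    haveI := com_simple
    refine ((inferInstance : (commutator comG).Normal).eq_bot_or_eq_top).resolve_left fun h => ?_
    have hz : ∀ z w : Cfsg.Spor.Fi23, z * w = w * z := fun z w => psi_injective (by
      rw [map_mul, map_mul]
      have : psiCom z * psiCom w = psiCom w * psiCom z := by
        rw [← commutatorElement_eq_one_iff_mul_comm, ← Subgroup.mem_bot, ← h, commutator_def]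
        exact Subgroup.commutator_mem_commutator (Subgroup.mem_top _) (Subgroup.mem_top _)
      exact congrArg Subtype.val this)
    have h1 : commutator Cfsg.Spor.Fi23 = ⊥ := by
      rw [eq_bot_iff, commutator_def, Subgroup.commutator_le]
      intro a _ b _
      rw [Subgroup.mem_bot, commutatorElement_eq_one_iff_mul_comm]
      exact hz a b
    rw [fi23_perfect] at h1
    haveI := Fi23P.simple
    exact top_ne_bot h1
  have hcover : ∀ m : covGrp, covProj m ∈ comG → (q m) ^ 3 = 1 := by
    intro m hm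
    have h : covProj m ∈ (⁅covD, covD⁆ : Subgroup covGrp).map covProj := by
      have hd : covD.map covProj = comG := by
        rw [show covD = commutator covGrp from rfl, commutator_def, Subgroup.map_commutator,
          Subgroup.map_top_of_surjective _ covProj_surjective, ← commutator_def]
      rw [Subgroup.map_commutator, hd]
      have h1 : (⟨covProj m, hm⟩ : comG) ∈ commutator comG := by
        rw [hperf]; exact Subgroup.mem_top _
      have h2 := Subgroup.mem_map_of_mem comG.subtype h1
      rwa [commutator_def, Subgroup.map_commutator, ← MonoidHom.range_eq_map,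
        Subgroup.range_subtype] at h2
    obtain ⟨x, hx, ex⟩ := h
    obtain ⟨n, hn⟩ := Subgroup.mem_zpowers_iff.1 (ker_covProj ▸ (MonoidHom.mem_ker.2
      (by rw [map_mul, map_inv, ex, inv_mul_cancel] : covProj (x⁻¹ * m) = 1)))
    have e : q m = q cZ ^ n := by
      have hqx : q x = 1 := (QuotientGroup.eq_one_iff x).2 hx
      rw [← map_zpow, hn, map_mul, map_inv, hqx, inv_one, one_mul]
    rw [e, ← zpow_natCast, ← zpow_mul, mul_comm, zpow_mul, zpow_natCast, ← map_pow, cZ_cube,
      map_one, one_zpow]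
  have hpair : ∀ p ∈ commList, q (cGen p.1) = q (cGen p.2) := by
    intro p hp
    have hlt : (commList.all fun p => Nat.blt p.1 12 && Nat.blt p.2 12) = true := by decide +kernel
    simp only [List.all_eq_true, Bool.and_eq_true, Nat.blt_eq] at hlt
    obtain ⟨hg, hh⟩ := hlt p hp
    have h3 := hcover (cGen p.1 * cGen p.2) (by
      rw [map_mul, covProj_gen hg, covProj_gen hh]
      exact mem_com (by rw [map_mul, signHom_gen, signHom_gen]; rfl))
    have h2 : (q (cGen p.1 * cGen p.2)) ^ 2 = 1 := by
      rw [← map_pow, pow_two]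
      conv_lhs => arg 2; arg 1; rw [cGen_comm hp]
      rw [mul_assoc, ← mul_assoc (cGen p.1), cGen_sq hg, one_mul, cGen_sq hh, map_one]
    rw [pow_succ, h2, one_mul, map_mul] at h3
    rw [eq_inv_of_mul_eq_one_left h3, ← map_inv, inv_eq_of_mul_eq_one_right (cGen_sq hh)]
  have hall : ∀ g < 12, q (cGen g) = q (cGen 0) := by
    intro g hg
    by_cases h0 : g = 0
    · rw [h0]
    by_cases h1 : g = 1
    · rw [h1, hpair (1, 3) (by decide), ← hpair (0, 3) (by decide)]
    exact (hpair (0, g) (by interval_cases g <;> first | omega | decide)).symm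
  have hact : ∀ {w : List ℕ}, (∀ g ∈ w, g < 12) → q (act cGen w) = q (cGen 0) ^ w.length := by
    intro w
    induction w with
    | nil => intro _; simp [act_nil]
    | cons g w ih =>
      intro h
      rw [act_cons, map_mul, ih fun a ha => h a (List.mem_cons_of_mem _ ha),
        hall g (h g List.mem_cons_self), List.length_cons, pow_succ]
  refine (QuotientGroup.eq_one_iff cZ).1 ?_
  show q (act cGen relSeventeen) = 1
  rw [hact (rel_lt (by simp)), show relSeventeen.length = 2 * 119 by decide +kernel, pow_mul, pow_two,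
    ← map_mul, cGen_sq (by norm_num), map_one, one_pow]

theorem cZ_memD : cZ ∈ covD :=
  Subgroup.commutator_mono le_top le_top cZ_mem_two

theorem covMap_stem : Cfsg.IsStemExtension covMap := by
  refine ⟨covMap_surjective, covMap_central, fun m hm => ?_⟩
  have h : (m : covGrp) ∈ (commutator covD).map covD.subtype := by
    rw [commutator_def, Subgroup.map_commutator, ← MonoidHom.range_eq_map, Subgroup.range_subtype]
    obtain ⟨n, hn⟩ := Subgroup.mem_zpowers_iff.1 (ker_covMap hm)
    rw [← hn]
    exact Subgroup.zpow_mem _ cZ_mem_two n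
  obtain ⟨y, hy, e⟩ := h
  rwa [← Subtype.ext (a1 := y) (a2 := m) e]

theorem covMap_ker_card : Nat.card covMap.ker = 3 := by
  have e : covMap.ker = Subgroup.zpowers (⟨cZ, cZ_memD⟩ : covD) := by
    refine le_antisymm (fun m hm => ?_) (Subgroup.zpowers_le.2 ?_)
    · obtain ⟨n, hn⟩ := Subgroup.mem_zpowers_iff.1 (ker_covMap hm)
      exact Subgroup.mem_zpowers_iff.2 ⟨n, Subtype.ext (by rw [Subgroup.coe_zpow]; exact hn)⟩
    · refine MonoidHom.mem_ker.2 (Subtype.ext ?_)
      show cZ.1.1 = 1
      rw [cZ_val]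
  rw [e, Nat.card_zpowers]
  haveI : Fact (Nat.Prime 3) := ⟨Nat.prime_three⟩
  exact orderOf_eq_prime (Subtype.ext (by rw [Subgroup.coe_pow]; exact cZ_cube))
    fun h => cZ_ne (congrArg Subtype.val h)

theorem covGrp_finite : Finite covGrp := by
  haveI : Finite Cfsg.Spor.Fi24 := Nat.finite_of_card_ne_zero (by rw [card_big]; norm_num)
  exact inferInstance

/-- The multiplier is cyclic of order three. -/
theorem multiplier : Cfsg.HasCyclicSchurMultiplier Cfsg.Spor.Fi24' 3 := by
  haveI := covGrp_finite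
  haveI : Fact (Nat.Prime 3) := ⟨Nat.prime_three⟩
  have hperf : commutator comG = ⊤ := by
    refine eq_top_iff.2 fun d _ => ?_
    obtain ⟨m, rfl⟩ := covMap_surjective d
    have hD : commutator covD = ⊤ := by
      refine eq_top_iff.2 fun x _ => ?_
      by_contra hx
      haveI := com_simple
      have hcD : (commutator comG) = ⊤ ∨ (commutator comG) = ⊥ :=
        ((inferInstance : (commutator comG).Normal).eq_bot_or_eq_top).symm
      rcases hcD with h | h
      · obtain ⟨c, hc, hce⟩ : covMap x ∈ (commutator covD).map covMap := by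
          rw [commutator_def, Subgroup.map_commutator,
            Subgroup.map_top_of_surjective _ covMap_surjective, ← commutator_def, h]
          exact Subgroup.mem_top _
        refine hx ?_
        have hz : c⁻¹ * x ∈ covMap.ker := by simp [MonoidHom.mem_ker, hce]
        simpa using mul_mem hc (covMap_stem.2.2 hz)
      · have hbad : commutator Cfsg.Spor.Fi23 = ⊥ := by
          rw [eq_bot_iff, commutator_def, Subgroup.commutator_le]
          intro a _ b _
          have : ⁅psiCom a, psiCom b⁆ = 1 := by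
            rw [← Subgroup.mem_bot, ← h, commutator_def]
            exact Subgroup.commutator_mem_commutator (Subgroup.mem_top _) (Subgroup.mem_top _)
          rw [Subgroup.mem_bot, commutatorElement_eq_one_iff_mul_comm]
          refine psi_injective ?_
          rw [map_mul, map_mul]
          exact congrArg Subtype.val (commutatorElement_eq_one_iff_mul_comm.1 this)
        rw [fi23_perfect] at hbad
        haveI := Fi23P.simple
        exact top_ne_bot hbad
    have := Subgroup.mem_map_of_mem covMap (hD ▸ Subgroup.mem_top m : m ∈ commutator covD)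
    rw [commutator_def, Subgroup.map_commutator, Subgroup.map_top_of_surjective _ covMap_surjective,
      ← commutator_def] at this
    exact this
  have hA : Nonempty (covMap.ker ≃* Multiplicative (ZMod 3)) :=
    ⟨mulEquivOfPrimeCardEq covMap_ker_card (by simp)⟩
  exact CfsgLib.Known.SplitLift.hasSchurMultiplier_of_max hperf covMap covMap_stem hA
    fun E _ _ σ hσ => covMap_ker_card.symm ▸ stem_ker_card σ hσ

end CfsgLib.Fi24P.Triple
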