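import Cfsg.Agent.Lib.Fi24P.Triple.PhaseDefs

/-!
# Kernel checks of the phases, part 1
-/

set_option autoImplicit false
set_option maxRecDepth 100000

namespace CfsgLib.Fi24P.Triple

set_option Elab.async false

theorem ph_block16 : phBlock 16 = true := by decide +kernel

theorem ph_block17 : phBlock 17 = true := by decide +kernel

theorem ph_block18 : phBlock 18 = true := by decide +kernel

theorem ph_block19 : phBlock 19 = true := by decide +kernel

theorem ph_block20 : phBlock 20 = true := by decide +kernel

theorem ph_block21 : phBlock 21 = true := by decide +kernel

theorem ph_block22 : phBlock 22 = true := by decide +kernel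

theorem ph_block23 : phBlock 23 = true := by decide +kernel

theorem ph_block24 : phBlock 24 = true := by decide +kernel

theorem ph_block25 : phBlock 25 = true := by decide +kernel

theorem ph_block26 : phBlock 26 = true := by decide +kernel

theorem ph_block27 : phBlock 27 = true := by decide +kernel

theorem ph_block28 : phBlock 28 = true := by decide +kernel

theorem ph_block29 : phBlock 29 = true := by decide +kernel

theorem ph_block30 : phBlock 30 = true := by decide +kernel

theorem ph_block31 : phBlock 31 = true := by decide +kernel

end CfsgLib.Fi24P.Triple
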