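import Cfsg.Agent.Lib.Fi24P.Triple.PhaseDefs

/-!
# Kernel checks of the phases, part 10
-/

set_option autoImplicit false
set_option maxRecDepth 100000

namespace CfsgLib.Fi24P.Triple

set_option Elab.async false

theorem ph_block160 : phBlock 160 = true := by decide +kernel

theorem ph_block161 : phBlock 161 = true := by decide +kernel

theorem ph_block162 : phBlock 162 = true := by decide +kernel

theorem ph_block163 : phBlock 163 = true := by decide +kernel

theorem ph_block164 : phBlock 164 = true := by decide +kernel

theorem ph_block165 : phBlock 165 = true := by decide +kernel

theorem ph_block166 : phBlock 166 = true := by decide +kernel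

theorem ph_block167 : phBlock 167 = true := by decide +kernel

theorem ph_block168 : phBlock 168 = true := by decide +kernel

theorem ph_block169 : phBlock 169 = true := by decide +kernel

theorem ph_block170 : phBlock 170 = true := by decide +kernel

theorem ph_block171 : phBlock 171 = true := by decide +kernel

theorem ph_block172 : phBlock 172 = true := by decide +kernel

theorem ph_block173 : phBlock 173 = true := by decide +kernel

theorem ph_block174 : phBlock 174 = true := by decide +kernel

theorem ph_block175 : phBlock 175 = true := by decide +kernel

end CfsgLib.Fi24P.Triple
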