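import Cfsg.Agent.Lib.Fi24P.Triple.PhaseDefs

/-!
# Kernel checks of the phases, part 11
-/

set_option autoImplicit false
set_option maxRecDepth 100000

namespace CfsgLib.Fi24P.Triple

set_option Elab.async false

theorem ph_block176 : phBlock 176 = true := by decide +kernel

theorem ph_block177 : phBlock 177 = true := by decide +kernel

theorem ph_block178 : phBlock 178 = true := by decide +kernel

theorem ph_block179 : phBlock 179 = true := by decide +kernel

theorem ph_block180 : phBlock 180 = true := by decide +kernel

theorem ph_block181 : phBlock 181 = true := by decide +kernel

theorem ph_block182 : phBlock 182 = true := by decide +kernel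

theorem ph_block183 : phBlock 183 = true := by decide +kernel

theorem ph_block184 : phBlock 184 = true := by decide +kernel

theorem ph_block185 : phBlock 185 = true := by decide +kernel

theorem ph_block186 : phBlock 186 = true := by decide +kernel

theorem ph_block187 : phBlock 187 = true := by decide +kernel

theorem ph_block188 : phBlock 188 = true := by decide +kernel

theorem ph_block189 : phBlock 189 = true := by decide +kernel

theorem ph_block190 : phBlock 190 = true := by decide +kernel

theorem ph_block191 : phBlock 191 = true := by decide +kernel

end CfsgLib.Fi24P.Triple
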