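import Cfsg.Agent.Lib.Fi24P.Triple.PhaseDefs

/-!
# Kernel checks of the phases, part 12
-/

set_option autoImplicit false
set_option maxRecDepth 100000

namespace CfsgLib.Fi24P.Triple

set_option Elab.async false

theorem ph_block192 : phBlock 192 = true := by decide +kernel

theorem ph_block193 : phBlock 193 = true := by decide +kernel

theorem ph_block194 : phBlock 194 = true := by decide +kernel

theorem ph_block195 : phBlock 195 = true := by decide +kernel

theorem ph_block196 : phBlock 196 = true := by decide +kernel

theorem ph_block197 : phBlock 197 = true := by decide +kernel

theorem ph_block198 : phBlock 198 = true := by decide +kernel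

theorem ph_block199 : phBlock 199 = true := by decide +kernel

theorem ph_block200 : phBlock 200 = true := by decide +kernel

theorem ph_block201 : phBlock 201 = true := by decide +kernel

theorem ph_block202 : phBlock 202 = true := by decide +kernel

theorem ph_block203 : phBlock 203 = true := by decide +kernel

theorem ph_block204 : phBlock 204 = true := by decide +kernel

theorem ph_block205 : phBlock 205 = true := by decide +kernel

theorem ph_block206 : phBlock 206 = true := by decide +kernel

theorem ph_block207 : phBlock 207 = true := by decide +kernel

end CfsgLib.Fi24P.Triple
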