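import Cfsg.Agent.Lib.Fi24P.Triple.PhaseDefs

/-!
# Kernel checks of the phases, part 13
-/

set_option autoImplicit false
set_option maxRecDepth 100000

namespace CfsgLib.Fi24P.Triple

set_option Elab.async false

theorem ph_block208 : phBlock 208 = true := by decide +kernel

theorem ph_block209 : phBlock 209 = true := by decide +kernel

theorem ph_block210 : phBlock 210 = true := by decide +kernel

theorem ph_block211 : phBlock 211 = true := by decide +kernel

theorem ph_block212 : phBlock 212 = true := by decide +kernel

theorem ph_block213 : phBlock 213 = true := by decide +kernel

theorem ph_block214 : phBlock 214 = true := by decide +kernel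

theorem ph_block215 : phBlock 215 = true := by decide +kernel

theorem ph_block216 : phBlock 216 = true := by decide +kernel

theorem ph_block217 : phBlock 217 = true := by decide +kernel

theorem ph_block218 : phBlock 218 = true := by decide +kernel

theorem ph_block219 : phBlock 219 = true := by decide +kernel

theorem ph_block220 : phBlock 220 = true := by decide +kernel

theorem ph_block221 : phBlock 221 = true := by decide +kernel

theorem ph_block222 : phBlock 222 = true := by decide +kernel

theorem ph_block223 : phBlock 223 = true := by decide +kernel

end CfsgLib.Fi24P.Triple
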