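import Cfsg.Agent.Lib.Fi24P.Triple.PhaseDefs

/-!
# Kernel checks of the phases, part 14
-/

set_option autoImplicit false
set_option maxRecDepth 100000

namespace CfsgLib.Fi24P.Triple

set_option Elab.async false

theorem ph_block224 : phBlock 224 = true := by decide +kernel

theorem ph_block225 : phBlock 225 = true := by decide +kernel

theorem ph_block226 : phBlock 226 = true := by decide +kernel

theorem ph_block227 : phBlock 227 = true := by decide +kernel

theorem ph_block228 : phBlock 228 = true := by decide +kernel

theorem ph_block229 : phBlock 229 = true := by decide +kernel

theorem ph_block230 : phBlock 230 = true := by decide +kernel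

theorem ph_block231 : phBlock 231 = true := by decide +kernel

theorem ph_block232 : phBlock 232 = true := by decide +kernel

theorem ph_block233 : phBlock 233 = true := by decide +kernel

theorem ph_block234 : phBlock 234 = true := by decide +kernel

theorem ph_block235 : phBlock 235 = true := by decide +kernel

theorem ph_block236 : phBlock 236 = true := by decide +kernel

theorem ph_block237 : phBlock 237 = true := by decide +kernel

theorem ph_block238 : phBlock 238 = true := by decide +kernel

theorem ph_block239 : phBlock 239 = true := by decide +kernel

end CfsgLib.Fi24P.Triple
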