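import Cfsg.Agent.Lib.Fi24P.Triple.PhaseDefs

/-!
# Kernel checks of the phases, part 15
-/

set_option autoImplicit false
set_option maxRecDepth 100000

namespace CfsgLib.Fi24P.Triple

set_option Elab.async false

theorem ph_block240 : phBlock 240 = true := by decide +kernel

theorem ph_block241 : phBlock 241 = true := by decide +kernel

theorem ph_block242 : phBlock 242 = true := by decide +kernel

theorem ph_block243 : phBlock 243 = true := by decide +kernel

theorem ph_block244 : phBlock 244 = true := by decide +kernel

theorem ph_block245 : phBlock 245 = true := by decide +kernel

theorem ph_block246 : phBlock 246 = true := by decide +kernel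

theorem ph_block247 : phBlock 247 = true := by decide +kernel

theorem ph_block248 : phBlock 248 = true := by decide +kernel

theorem ph_block249 : phBlock 249 = true := by decide +kernel

theorem ph_block250 : phBlock 250 = true := by decide +kernel

theorem ph_block251 : phBlock 251 = true := by decide +kernel

theorem ph_block252 : phBlock 252 = true := by decide +kernel

theorem ph_block253 : phBlock 253 = true := by decide +kernel

theorem ph_block254 : phBlock 254 = true := by decide +kernel

theorem ph_block255 : phBlock 255 = true := by decide +kernel

end CfsgLib.Fi24P.Triple
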