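import Cfsg.Agent.Lib.Fi24P.Triple.PhaseDefs

/-!
# Kernel checks of the phases, part 16
-/

set_option autoImplicit false
set_option maxRecDepth 100000

namespace CfsgLib.Fi24P.Triple

set_option Elab.async false

theorem ph_block256 : phBlock 256 = true := by decide +kernel

theorem ph_block257 : phBlock 257 = true := by decide +kernel

theorem ph_block258 : phBlock 258 = true := by decide +kernel

theorem ph_block259 : phBlock 259 = true := by decide +kernel

theorem ph_block260 : phBlock 260 = true := by decide +kernel

theorem ph_block261 : phBlock 261 = true := by decide +kernel

theorem ph_block262 : phBlock 262 = true := by decide +kernel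

theorem ph_block263 : phBlock 263 = true := by decide +kernel

theorem ph_block264 : phBlock 264 = true := by decide +kernel

theorem ph_block265 : phBlock 265 = true := by decide +kernel

theorem ph_block266 : phBlock 266 = true := by decide +kernel

theorem ph_block267 : phBlock 267 = true := by decide +kernel

theorem ph_block268 : phBlock 268 = true := by decide +kernel

theorem ph_block269 : phBlock 269 = true := by decide +kernel

theorem ph_block270 : phBlock 270 = true := by decide +kernel

theorem ph_block271 : phBlock 271 = true := by decide +kernel

end CfsgLib.Fi24P.Triple
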