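import Cfsg.Agent.Lib.Fi24P.Triple.PhaseDefs

/-!
# Kernel checks of the phases, part 17
-/

set_option autoImplicit false
set_option maxRecDepth 100000

namespace CfsgLib.Fi24P.Triple

set_option Elab.async false

theorem ph_block272 : phBlock 272 = true := by decide +kernel

theorem ph_block273 : phBlock 273 = true := by decide +kernel

theorem ph_block274 : phBlock 274 = true := by decide +kernel

theorem ph_block275 : phBlock 275 = true := by decide +kernel

theorem ph_block276 : phBlock 276 = true := by decide +kernel

theorem ph_block277 : phBlock 277 = true := by decide +kernel

theorem ph_block278 : phBlock 278 = true := by decide +kernel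

theorem ph_block279 : phBlock 279 = true := by decide +kernel

theorem ph_block280 : phBlock 280 = true := by decide +kernel

theorem ph_block281 : phBlock 281 = true := by decide +kernel

theorem ph_block282 : phBlock 282 = true := by decide +kernel

theorem ph_block283 : phBlock 283 = true := by decide +kernel

theorem ph_block284 : phBlock 284 = true := by decide +kernel

theorem ph_block285 : phBlock 285 = true := by decide +kernel

theorem ph_block286 : phBlock 286 = true := by decide +kernel

theorem ph_block287 : phBlock 287 = true := by decide +kernel

end CfsgLib.Fi24P.Triple
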