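import Cfsg.Agent.Lib.Fi24P.Triple.PhaseDefs

/-!
# Kernel checks of the phases, part 18
-/

set_option autoImplicit false
set_option maxRecDepth 100000

namespace CfsgLib.Fi24P.Triple

set_option Elab.async false

theorem ph_block288 : phBlock 288 = true := by decide +kernel

theorem ph_block289 : phBlock 289 = true := by decide +kernel

theorem ph_block290 : phBlock 290 = true := by decide +kernel

theorem ph_block291 : phBlock 291 = true := by decide +kernel

theorem ph_block292 : phBlock 292 = true := by decide +kernel

theorem ph_block293 : phBlock 293 = true := by decide +kernel

theorem ph_block294 : phBlock 294 = true := by decide +kernel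

theorem ph_block295 : phBlock 295 = true := by decide +kernel

theorem ph_block296 : phBlock 296 = true := by decide +kernel

theorem ph_block297 : phBlock 297 = true := by decide +kernel

theorem ph_block298 : phBlock 298 = true := by decide +kernel

theorem ph_block299 : phBlock 299 = true := by decide +kernel

theorem ph_block300 : phBlock 300 = true := by decide +kernel

theorem ph_block301 : phBlock 301 = true := by decide +kernel

theorem ph_block302 : phBlock 302 = true := by decide +kernel

theorem ph_block303 : phBlock 303 = true := by decide +kernel

end CfsgLib.Fi24P.Triple
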