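import Cfsg.Agent.Lib.Fi24P.Triple.PhaseDefs

/-!
# Kernel checks of the phases, part 2
-/

set_option autoImplicit false
set_option maxRecDepth 100000

namespace CfsgLib.Fi24P.Triple

set_option Elab.async false

theorem ph_block32 : phBlock 32 = true := by decide +kernel

theorem ph_block33 : phBlock 33 = true := by decide +kernel

theorem ph_block34 : phBlock 34 = true := by decide +kernel

theorem ph_block35 : phBlock 35 = true := by decide +kernel

theorem ph_block36 : phBlock 36 = true := by decide +kernel

theorem ph_block37 : phBlock 37 = true := by decide +kernel

theorem ph_block38 : phBlock 38 = true := by decide +kernel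

theorem ph_block39 : phBlock 39 = true := by decide +kernel

theorem ph_block40 : phBlock 40 = true := by decide +kernel

theorem ph_block41 : phBlock 41 = true := by decide +kernel

theorem ph_block42 : phBlock 42 = true := by decide +kernel

theorem ph_block43 : phBlock 43 = true := by decide +kernel

theorem ph_block44 : phBlock 44 = true := by decide +kernel

theorem ph_block45 : phBlock 45 = true := by decide +kernel

theorem ph_block46 : phBlock 46 = true := by decide +kernel

theorem ph_block47 : phBlock 47 = true := by decide +kernel

end CfsgLib.Fi24P.Triple
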