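import Cfsg.Agent.Lib.Fi24P.Triple.PhaseDefs

/-!
# Kernel checks of the phases, part 3
-/

set_option autoImplicit false
set_option maxRecDepth 100000

namespace CfsgLib.Fi24P.Triple

set_option Elab.async false

theorem ph_block48 : phBlock 48 = true := by decide +kernel

theorem ph_block49 : phBlock 49 = true := by decide +kernel

theorem ph_block50 : phBlock 50 = true := by decide +kernel

theorem ph_block51 : phBlock 51 = true := by decide +kernel

theorem ph_block52 : phBlock 52 = true := by decide +kernel

theorem ph_block53 : phBlock 53 = true := by decide +kernel

theorem ph_block54 : phBlock 54 = true := by decide +kernel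

theorem ph_block55 : phBlock 55 = true := by decide +kernel

theorem ph_block56 : phBlock 56 = true := by decide +kernel

theorem ph_block57 : phBlock 57 = true := by decide +kernel

theorem ph_block58 : phBlock 58 = true := by decide +kernel

theorem ph_block59 : phBlock 59 = true := by decide +kernel

theorem ph_block60 : phBlock 60 = true := by decide +kernel

theorem ph_block61 : phBlock 61 = true := by decide +kernel

theorem ph_block62 : phBlock 62 = true := by decide +kernel

theorem ph_block63 : phBlock 63 = true := by decide +kernel

end CfsgLib.Fi24P.Triple
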