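import Cfsg.Agent.Lib.Fi24P.Triple.PhaseDefs

/-!
# Kernel checks of the phases, part 4
-/

set_option autoImplicit false
set_option maxRecDepth 100000

namespace CfsgLib.Fi24P.Triple

set_option Elab.async false

theorem ph_block64 : phBlock 64 = true := by decide +kernel

theorem ph_block65 : phBlock 65 = true := by decide +kernel

theorem ph_block66 : phBlock 66 = true := by decide +kernel

theorem ph_block67 : phBlock 67 = true := by decide +kernel

theorem ph_block68 : phBlock 68 = true := by decide +kernel

theorem ph_block69 : phBlock 69 = true := by decide +kernel

theorem ph_block70 : phBlock 70 = true := by decide +kernel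

theorem ph_block71 : phBlock 71 = true := by decide +kernel

theorem ph_block72 : phBlock 72 = true := by decide +kernel

theorem ph_block73 : phBlock 73 = true := by decide +kernel

theorem ph_block74 : phBlock 74 = true := by decide +kernel

theorem ph_block75 : phBlock 75 = true := by decide +kernel

theorem ph_block76 : phBlock 76 = true := by decide +kernel

theorem ph_block77 : phBlock 77 = true := by decide +kernel

theorem ph_block78 : phBlock 78 = true := by decide +kernel

theorem ph_block79 : phBlock 79 = true := by decide +kernel

end CfsgLib.Fi24P.Triple
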