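import Cfsg.Agent.Lib.Fi24P.Triple.PhaseDefs

/-!
# Kernel checks of the phases, part 5
-/

set_option autoImplicit false
set_option maxRecDepth 100000

namespace CfsgLib.Fi24P.Triple

set_option Elab.async false

theorem ph_block80 : phBlock 80 = true := by decide +kernel

theorem ph_block81 : phBlock 81 = true := by decide +kernel

theorem ph_block82 : phBlock 82 = true := by decide +kernel

theorem ph_block83 : phBlock 83 = true := by decide +kernel

theorem ph_block84 : phBlock 84 = true := by decide +kernel

theorem ph_block85 : phBlock 85 = true := by decide +kernel

theorem ph_block86 : phBlock 86 = true := by decide +kernel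

theorem ph_block87 : phBlock 87 = true := by decide +kernel

theorem ph_block88 : phBlock 88 = true := by decide +kernel

theorem ph_block89 : phBlock 89 = true := by decide +kernel

theorem ph_block90 : phBlock 90 = true := by decide +kernel

theorem ph_block91 : phBlock 91 = true := by decide +kernel

theorem ph_block92 : phBlock 92 = true := by decide +kernel

theorem ph_block93 : phBlock 93 = true := by decide +kernel

theorem ph_block94 : phBlock 94 = true := by decide +kernel

theorem ph_block95 : phBlock 95 = true := by decide +kernel

end CfsgLib.Fi24P.Triple
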