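import Cfsg.Agent.Lib.Fi24P.Triple.PhaseDefs

/-!
# Kernel checks of the phases, part 6
-/

set_option autoImplicit false
set_option maxRecDepth 100000

namespace CfsgLib.Fi24P.Triple

set_option Elab.async false

theorem ph_block96 : phBlock 96 = true := by decide +kernel

theorem ph_block97 : phBlock 97 = true := by decide +kernel

theorem ph_block98 : phBlock 98 = true := by decide +kernel

theorem ph_block99 : phBlock 99 = true := by decide +kernel

theorem ph_block100 : phBlock 100 = true := by decide +kernel

theorem ph_block101 : phBlock 101 = true := by decide +kernel

theorem ph_block102 : phBlock 102 = true := by decide +kernel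

theorem ph_block103 : phBlock 103 = true := by decide +kernel

theorem ph_block104 : phBlock 104 = true := by decide +kernel

theorem ph_block105 : phBlock 105 = true := by decide +kernel

theorem ph_block106 : phBlock 106 = true := by decide +kernel

theorem ph_block107 : phBlock 107 = true := by decide +kernel

theorem ph_block108 : phBlock 108 = true := by decide +kernel

theorem ph_block109 : phBlock 109 = true := by decide +kernel

theorem ph_block110 : phBlock 110 = true := by decide +kernel

theorem ph_block111 : phBlock 111 = true := by decide +kernel

end CfsgLib.Fi24P.Triple
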