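import Cfsg.Agent.Lib.Fi24P.Triple.PhaseDefs

/-!
# Kernel checks of the phases, part 7
-/

set_option autoImplicit false
set_option maxRecDepth 100000

namespace CfsgLib.Fi24P.Triple

set_option Elab.async false

theorem ph_block112 : phBlock 112 = true := by decide +kernel

theorem ph_block113 : phBlock 113 = true := by decide +kernel

theorem ph_block114 : phBlock 114 = true := by decide +kernel

theorem ph_block115 : phBlock 115 = true := by decide +kernel

theorem ph_block116 : phBlock 116 = true := by decide +kernel

theorem ph_block117 : phBlock 117 = true := by decide +kernel

theorem ph_block118 : phBlock 118 = true := by decide +kernel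

theorem ph_block119 : phBlock 119 = true := by decide +kernel

theorem ph_block120 : phBlock 120 = true := by decide +kernel

theorem ph_block121 : phBlock 121 = true := by decide +kernel

theorem ph_block122 : phBlock 122 = true := by decide +kernel

theorem ph_block123 : phBlock 123 = true := by decide +kernel

theorem ph_block124 : phBlock 124 = true := by decide +kernel

theorem ph_block125 : phBlock 125 = true := by decide +kernel

theorem ph_block126 : phBlock 126 = true := by decide +kernel

theorem ph_block127 : phBlock 127 = true := by decide +kernel

end CfsgLib.Fi24P.Triple
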