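import Cfsg.Agent.Lib.Fi24P.Triple.PhaseDefs

/-!
# Kernel checks of the phases, part 8
-/

set_option autoImplicit false
set_option maxRecDepth 100000

namespace CfsgLib.Fi24P.Triple

set_option Elab.async false

theorem ph_block128 : phBlock 128 = true := by decide +kernel

theorem ph_block129 : phBlock 129 = true := by decide +kernel

theorem ph_block130 : phBlock 130 = true := by decide +kernel

theorem ph_block131 : phBlock 131 = true := by decide +kernel

theorem ph_block132 : phBlock 132 = true := by decide +kernel

theorem ph_block133 : phBlock 133 = true := by decide +kernel

theorem ph_block134 : phBlock 134 = true := by decide +kernel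

theorem ph_block135 : phBlock 135 = true := by decide +kernel

theorem ph_block136 : phBlock 136 = true := by decide +kernel

theorem ph_block137 : phBlock 137 = true := by decide +kernel

theorem ph_block138 : phBlock 138 = true := by decide +kernel

theorem ph_block139 : phBlock 139 = true := by decide +kernel

theorem ph_block140 : phBlock 140 = true := by decide +kernel

theorem ph_block141 : phBlock 141 = true := by decide +kernel

theorem ph_block142 : phBlock 142 = true := by decide +kernel

theorem ph_block143 : phBlock 143 = true := by decide +kernel

end CfsgLib.Fi24P.Triple
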