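import Cfsg.Agent.Lib.Fi24P.Triple.PhaseCheck0
import Cfsg.Agent.Lib.Fi24P.Triple.PhaseCheck1
import Cfsg.Agent.Lib.Fi24P.Triple.PhaseCheck2
import Cfsg.Agent.Lib.Fi24P.Triple.PhaseCheck3
import Cfsg.Agent.Lib.Fi24P.Triple.PhaseCheck4
import Cfsg.Agent.Lib.Fi24P.Triple.PhaseCheck5
import Cfsg.Agent.Lib.Fi24P.Triple.PhaseCheck6
import Cfsg.Agent.Lib.Fi24P.Triple.PhaseCheck7
import Cfsg.Agent.Lib.Fi24P.Triple.PhaseCheck8
import Cfsg.Agent.Lib.Fi24P.Triple.PhaseCheck9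
import Cfsg.Agent.Lib.Fi24P.Triple.PhaseCheck10
import Cfsg.Agent.Lib.Fi24P.Triple.PhaseCheck11
import Cfsg.Agent.Lib.Fi24P.Triple.PhaseCheck12
import Cfsg.Agent.Lib.Fi24P.Triple.PhaseCheck13
import Cfsg.Agent.Lib.Fi24P.Triple.PhaseCheck14
import Cfsg.Agent.Lib.Fi24P.Triple.PhaseCheck15
import Cfsg.Agent.Lib.Fi24P.Triple.PhaseCheck16
import Cfsg.Agent.Lib.Fi24P.Triple.PhaseCheck17
import Cfsg.Agent.Lib.Fi24P.Triple.PhaseCheck18
import Cfsg.Agent.Lib.Fi24P.Triple.PhaseCheck19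

/-!
# All blocks of phases
-/

set_option autoImplicit false
set_option maxRecDepth 100000

namespace CfsgLib.Fi24P.Triple

theorem ph_part0 {b : ℕ} (h1 : 0 ≤ b) (h2 : b < 16) : phBlock b = true := by
  obtain rfl | rfl | rfl | rfl | rfl | rfl | rfl | rfl | rfl | rfl | rfl | rfl | rfl | rfl | rfl | rfl : b = 0 ∨ b = 1 ∨ b = 2 ∨ b = 3 ∨ b = 4 ∨ b = 5 ∨ b = 6 ∨ b = 7 ∨ b = 8 ∨ b = 9 ∨ b = 10 ∨ b = 11 ∨ b = 12 ∨ b = 13 ∨ b = 14 ∨ b = 15 := by omega
  exacts [ph_block0, ph_block1, ph_block2, ph_block3, ph_block4, ph_block5, ph_block6, ph_block7, ph_block8, ph_block9, ph_block10, ph_block11, ph_block12, ph_block13, ph_block14, ph_block15]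

theorem ph_part1 {b : ℕ} (h1 : 16 ≤ b) (h2 : b < 32) : phBlock b = true := by
  obtain rfl | rfl | rfl | rfl | rfl | rfl | rfl | rfl | rfl | rfl | rfl | rfl | rfl | rfl | rfl | rfl : b = 16 ∨ b = 17 ∨ b = 18 ∨ b = 19 ∨ b = 20 ∨ b = 21 ∨ b = 22 ∨ b = 23 ∨ b = 24 ∨ b = 25 ∨ b = 26 ∨ b = 27 ∨ b = 28 ∨ b = 29 ∨ b = 30 ∨ b = 31 := by omega
  exacts [ph_block16, ph_block17, ph_block18, ph_block19, ph_block20, ph_block21, ph_block22, ph_block23, ph_block24, ph_block25, ph_block26, ph_block27, ph_block28, ph_block29, ph_block30, ph_block31]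

theorem ph_part2 {b : ℕ} (h1 : 32 ≤ b) (h2 : b < 48) : phBlock b = true := by
  obtain rfl | rfl | rfl | rfl | rfl | rfl | rfl | rfl | rfl | rfl | rfl | rfl | rfl | rfl | rfl | rfl : b = 32 ∨ b = 33 ∨ b = 34 ∨ b = 35 ∨ b = 36 ∨ b = 37 ∨ b = 38 ∨ b = 39 ∨ b = 40 ∨ b = 41 ∨ b = 42 ∨ b = 43 ∨ b = 44 ∨ b = 45 ∨ b = 46 ∨ b = 47 := by omega
  exacts [ph_block32, ph_block33, ph_block34, ph_block35, ph_block36, ph_block37, ph_block38, ph_block39, ph_block40, ph_block41, ph_block42, ph_block43, ph_block44, ph_block45, ph_block46, ph_block47]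

theorem ph_part3 {b : ℕ} (h1 : 48 ≤ b) (h2 : b < 64) : phBlock b = true := by
  obtain rfl | rfl | rfl | rfl | rfl | rfl | rfl | rfl | rfl | rfl | rfl | rfl | rfl | rfl | rfl | rfl : b = 48 ∨ b = 49 ∨ b = 50 ∨ b = 51 ∨ b = 52 ∨ b = 53 ∨ b = 54 ∨ b = 55 ∨ b = 56 ∨ b = 57 ∨ b = 58 ∨ b = 59 ∨ b = 60 ∨ b = 61 ∨ b = 62 ∨ b = 63 := by omega
  exacts [ph_block48, ph_block49, ph_block50, ph_block51, ph_block52, ph_block53, ph_block54, ph_block55, ph_block56, ph_block57, ph_block58, ph_block59, ph_block60, ph_block61, ph_block62, ph_block63]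

theorem ph_part4 {b : ℕ} (h1 : 64 ≤ b) (h2 : b < 80) : phBlock b = true := by
  obtain rfl | rfl | rfl | rfl | rfl | rfl | rfl | rfl | rfl | rfl | rfl | rfl | rfl | rfl | rfl | rfl : b = 64 ∨ b = 65 ∨ b = 66 ∨ b = 67 ∨ b = 68 ∨ b = 69 ∨ b = 70 ∨ b = 71 ∨ b = 72 ∨ b = 73 ∨ b = 74 ∨ b = 75 ∨ b = 76 ∨ b = 77 ∨ b = 78 ∨ b = 79 := by omega
  exacts [ph_block64, ph_block65, ph_block66, ph_block67, ph_block68, ph_block69, ph_block70, ph_block71, ph_block72, ph_block73, ph_block74, ph_block75, ph_block76, ph_block77, ph_block78, ph_block79]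

theorem ph_part5 {b : ℕ} (h1 : 80 ≤ b) (h2 : b < 96) : phBlock b = true := by
  obtain rfl | rfl | rfl | rfl | rfl | rfl | rfl | rfl | rfl | rfl | rfl | rfl | rfl | rfl | rfl | rfl : b = 80 ∨ b = 81 ∨ b = 82 ∨ b = 83 ∨ b = 84 ∨ b = 85 ∨ b = 86 ∨ b = 87 ∨ b = 88 ∨ b = 89 ∨ b = 90 ∨ b = 91 ∨ b = 92 ∨ b = 93 ∨ b = 94 ∨ b = 95 := by omega
  exacts [ph_block80, ph_block81, ph_block82, ph_block83, ph_block84, ph_block85, ph_block86, ph_block87, ph_block88, ph_block89, ph_block90, ph_block91, ph_block92, ph_block93, ph_block94, ph_block95]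

theorem ph_part6 {b : ℕ} (h1 : 96 ≤ b) (h2 : b < 112) : phBlock b = true := by
  obtain rfl | rfl | rfl | rfl | rfl | rfl | rfl | rfl | rfl | rfl | rfl | rfl | rfl | rfl | rfl | rfl : b = 96 ∨ b = 97 ∨ b = 98 ∨ b = 99 ∨ b = 100 ∨ b = 101 ∨ b = 102 ∨ b = 103 ∨ b = 104 ∨ b = 105 ∨ b = 106 ∨ b = 107 ∨ b = 108 ∨ b = 109 ∨ b = 110 ∨ b = 111 := by omega
  exacts [ph_block96, ph_block97, ph_block98, ph_block99, ph_block100, ph_block101, ph_block102, ph_block103, ph_block104, ph_block105, ph_block106, ph_block107, ph_block108, ph_block109, ph_block110, ph_block111]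

theorem ph_part7 {b : ℕ} (h1 : 112 ≤ b) (h2 : b < 128) : phBlock b = true := by
  obtain rfl | rfl | rfl | rfl | rfl | rfl | rfl | rfl | rfl | rfl | rfl | rfl | rfl | rfl | rfl | rfl : b = 112 ∨ b = 113 ∨ b = 114 ∨ b = 115 ∨ b = 116 ∨ b = 117 ∨ b = 118 ∨ b = 119 ∨ b = 120 ∨ b = 121 ∨ b = 122 ∨ b = 123 ∨ b = 124 ∨ b = 125 ∨ b = 126 ∨ b = 127 := by omega
  exacts [ph_block112, ph_block113, ph_block114, ph_block115, ph_block116, ph_block117, ph_block118, ph_block119, ph_block120, ph_block121, ph_block122, ph_block123, ph_block124, ph_block125, ph_block126, ph_block127]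

theorem ph_part8 {b : ℕ} (h1 : 128 ≤ b) (h2 : b < 144) : phBlock b = true := by
  obtain rfl | rfl | rfl | rfl | rfl | rfl | rfl | rfl | rfl | rfl | rfl | rfl | rfl | rfl | rfl | rfl : b = 128 ∨ b = 129 ∨ b = 130 ∨ b = 131 ∨ b = 132 ∨ b = 133 ∨ b = 134 ∨ b = 135 ∨ b = 136 ∨ b = 137 ∨ b = 138 ∨ b = 139 ∨ b = 140 ∨ b = 141 ∨ b = 142 ∨ b = 143 := by omega
  exacts [ph_block128, ph_block129, ph_block130, ph_block131, ph_block132, ph_block133, ph_block134, ph_block135, ph_block136, ph_block137, ph_block138, ph_block139, ph_block140, ph_block141, ph_block142, ph_block143]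

theorem ph_part9 {b : ℕ} (h1 : 144 ≤ b) (h2 : b < 160) : phBlock b = true := by
  obtain rfl | rfl | rfl | rfl | rfl | rfl | rfl | rfl | rfl | rfl | rfl | rfl | rfl | rfl | rfl | rfl : b = 144 ∨ b = 145 ∨ b = 146 ∨ b = 147 ∨ b = 148 ∨ b = 149 ∨ b = 150 ∨ b = 151 ∨ b = 152 ∨ b = 153 ∨ b = 154 ∨ b = 155 ∨ b = 156 ∨ b = 157 ∨ b = 158 ∨ b = 159 := by omega
  exacts [ph_block144, ph_block145, ph_block146, ph_block147, ph_block148, ph_block149, ph_block150, ph_block151, ph_block152, ph_block153, ph_block154, ph_block155, ph_block156, ph_block157, ph_block158, ph_block159]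

theorem ph_part10 {b : ℕ} (h1 : 160 ≤ b) (h2 : b < 176) : phBlock b = true := by
  obtain rfl | rfl | rfl | rfl | rfl | rfl | rfl | rfl | rfl | rfl | rfl | rfl | rfl | rfl | rfl | rfl : b = 160 ∨ b = 161 ∨ b = 162 ∨ b = 163 ∨ b = 164 ∨ b = 165 ∨ b = 166 ∨ b = 167 ∨ b = 168 ∨ b = 169 ∨ b = 170 ∨ b = 171 ∨ b = 172 ∨ b = 173 ∨ b = 174 ∨ b = 175 := by omega
  exacts [ph_block160, ph_block161, ph_block162, ph_block163, ph_block164, ph_block165, ph_block166, ph_block167, ph_block168, ph_block169, ph_block170, ph_block171, ph_block172, ph_block173, ph_block174, ph_block175]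

theorem ph_part11 {b : ℕ} (h1 : 176 ≤ b) (h2 : b < 192) : phBlock b = true := by
  obtain rfl | rfl | rfl | rfl | rfl | rfl | rfl | rfl | rfl | rfl | rfl | rfl | rfl | rfl | rfl | rfl : b = 176 ∨ b = 177 ∨ b = 178 ∨ b = 179 ∨ b = 180 ∨ b = 181 ∨ b = 182 ∨ b = 183 ∨ b = 184 ∨ b = 185 ∨ b = 186 ∨ b = 187 ∨ b = 188 ∨ b = 189 ∨ b = 190 ∨ b = 191 := by omega
  exacts [ph_block176, ph_block177, ph_block178, ph_block179, ph_block180, ph_block181, ph_block182, ph_block183, ph_block184, ph_block185, ph_block186, ph_block187, ph_block188, ph_block189, ph_block190, ph_block191]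

theorem ph_part12 {b : ℕ} (h1 : 192 ≤ b) (h2 : b < 208) : phBlock b = true := by
  obtain rfl | rfl | rfl | rfl | rfl | rfl | rfl | rfl | rfl | rfl | rfl | rfl | rfl | rfl | rfl | rfl : b = 192 ∨ b = 193 ∨ b = 194 ∨ b = 195 ∨ b = 196 ∨ b = 197 ∨ b = 198 ∨ b = 199 ∨ b = 200 ∨ b = 201 ∨ b = 202 ∨ b = 203 ∨ b = 204 ∨ b = 205 ∨ b = 206 ∨ b = 207 := by omega
  exacts [ph_block192, ph_block193, ph_block194, ph_block195, ph_block196, ph_block197, ph_block198, ph_block199, ph_block200, ph_block201, ph_block202, ph_block203, ph_block204, ph_block205, ph_block206, ph_block207]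

theorem ph_part13 {b : ℕ} (h1 : 208 ≤ b) (h2 : b < 224) : phBlock b = true := by
  obtain rfl | rfl | rfl | rfl | rfl | rfl | rfl | rfl | rfl | rfl | rfl | rfl | rfl | rfl | rfl | rfl : b = 208 ∨ b = 209 ∨ b = 210 ∨ b = 211 ∨ b = 212 ∨ b = 213 ∨ b = 214 ∨ b = 215 ∨ b = 216 ∨ b = 217 ∨ b = 218 ∨ b = 219 ∨ b = 220 ∨ b = 221 ∨ b = 222 ∨ b = 223 := by omega
  exacts [ph_block208, ph_block209, ph_block210, ph_block211, ph_block212, ph_block213, ph_block214, ph_block215, ph_block216, ph_block217, ph_block218, ph_block219, ph_block220, ph_block221, ph_block222, ph_block223]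

theorem ph_part14 {b : ℕ} (h1 : 224 ≤ b) (h2 : b < 240) : phBlock b = true := by
  obtain rfl | rfl | rfl | rfl | rfl | rfl | rfl | rfl | rfl | rfl | rfl | rfl | rfl | rfl | rfl | rfl : b = 224 ∨ b = 225 ∨ b = 226 ∨ b = 227 ∨ b = 228 ∨ b = 229 ∨ b = 230 ∨ b = 231 ∨ b = 232 ∨ b = 233 ∨ b = 234 ∨ b = 235 ∨ b = 236 ∨ b = 237 ∨ b = 238 ∨ b = 239 := by omega
  exacts [ph_block224, ph_block225, ph_block226, ph_block227, ph_block228, ph_block229, ph_block230, ph_block231, ph_block232, ph_block233, ph_block234, ph_block235, ph_block236, ph_block237, ph_block238, ph_block239]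

theorem ph_part15 {b : ℕ} (h1 : 240 ≤ b) (h2 : b < 256) : phBlock b = true := by
  obtain rfl | rfl | rfl | rfl | rfl | rfl | rfl | rfl | rfl | rfl | rfl | rfl | rfl | rfl | rfl | rfl : b = 240 ∨ b = 241 ∨ b = 242 ∨ b = 243 ∨ b = 244 ∨ b = 245 ∨ b = 246 ∨ b = 247 ∨ b = 248 ∨ b = 249 ∨ b = 250 ∨ b = 251 ∨ b = 252 ∨ b = 253 ∨ b = 254 ∨ b = 255 := by omega
  exacts [ph_block240, ph_block241, ph_block242, ph_block243, ph_block244, ph_block245, ph_block246, ph_block247, ph_block248, ph_block249, ph_block250, ph_block251, ph_block252, ph_block253, ph_block254, ph_block255]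

theorem ph_part16 {b : ℕ} (h1 : 256 ≤ b) (h2 : b < 272) : phBlock b = true := by
  obtain rfl | rfl | rfl | rfl | rfl | rfl | rfl | rfl | rfl | rfl | rfl | rfl | rfl | rfl | rfl | rfl : b = 256 ∨ b = 257 ∨ b = 258 ∨ b = 259 ∨ b = 260 ∨ b = 261 ∨ b = 262 ∨ b = 263 ∨ b = 264 ∨ b = 265 ∨ b = 266 ∨ b = 267 ∨ b = 268 ∨ b = 269 ∨ b = 270 ∨ b = 271 := by omega
  exacts [ph_block256, ph_block257, ph_block258, ph_block259, ph_block260, ph_block261, ph_block262, ph_block263, ph_block264, ph_block265, ph_block266, ph_block267, ph_block268, ph_block269, ph_block270, ph_block271]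

theorem ph_part17 {b : ℕ} (h1 : 272 ≤ b) (h2 : b < 288) : phBlock b = true := by
  obtain rfl | rfl | rfl | rfl | rfl | rfl | rfl | rfl | rfl | rfl | rfl | rfl | rfl | rfl | rfl | rfl : b = 272 ∨ b = 273 ∨ b = 274 ∨ b = 275 ∨ b = 276 ∨ b = 277 ∨ b = 278 ∨ b = 279 ∨ b = 280 ∨ b = 281 ∨ b = 282 ∨ b = 283 ∨ b = 284 ∨ b = 285 ∨ b = 286 ∨ b = 287 := by omega
  exacts [ph_block272, ph_block273, ph_block274, ph_block275, ph_block276, ph_block277, ph_block278, ph_block279, ph_block280, ph_block281, ph_block282, ph_block283, ph_block284, ph_block285, ph_block286, ph_block287]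

theorem ph_part18 {b : ℕ} (h1 : 288 ≤ b) (h2 : b < 304) : phBlock b = true := by
  obtain rfl | rfl | rfl | rfl | rfl | rfl | rfl | rfl | rfl | rfl | rfl | rfl | rfl | rfl | rfl | rfl : b = 288 ∨ b = 289 ∨ b = 290 ∨ b = 291 ∨ b = 292 ∨ b = 293 ∨ b = 294 ∨ b = 295 ∨ b = 296 ∨ b = 297 ∨ b = 298 ∨ b = 299 ∨ b = 300 ∨ b = 301 ∨ b = 302 ∨ b = 303 := by omega
  exacts [ph_block288, ph_block289, ph_block290, ph_block291, ph_block292, ph_block293, ph_block294, ph_block295, ph_block296, ph_block297, ph_block298, ph_block299, ph_block300, ph_block301, ph_block302, ph_block303]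

theorem ph_part19 {b : ℕ} (h1 : 304 ≤ b) (h2 : b < 307) : phBlock b = true := by
  obtain rfl | rfl | rfl : b = 304 ∨ b = 305 ∨ b = 306 := by omega
  exacts [ph_block304, ph_block305, ph_block306]

theorem phases_all {b : ℕ} (hb : b < 307) : phBlock b = true := by
  by_cases h0 : b < 16
  · exact ph_part0 (by omega) h0
  by_cases h1 : b < 32
  · exact ph_part1 (by omega) h1
  by_cases h2 : b < 48
  · exact ph_part2 (by omega) h2
  by_cases h3 : b < 64
  · exact ph_part3 (by omega) h3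
  by_cases h4 : b < 80
  · exact ph_part4 (by omega) h4
  by_cases h5 : b < 96
  · exact ph_part5 (by omega) h5
  by_cases h6 : b < 112
  · exact ph_part6 (by omega) h6
  by_cases h7 : b < 128
  · exact ph_part7 (by omega) h7
  by_cases h8 : b < 144
  · exact ph_part8 (by omega) h8
  by_cases h9 : b < 160
  · exact ph_part9 (by omega) h9
  by_cases h10 : b < 176
  · exact ph_part10 (by omega) h10
  by_cases h11 : b < 192
  · exact ph_part11 (by omega) h11
  by_cases h12 : b < 208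
  · exact ph_part12 (by omega) h12
  by_cases h13 : b < 224
  · exact ph_part13 (by omega) h13
  by_cases h14 : b < 240
  · exact ph_part14 (by omega) h14
  by_cases h15 : b < 256
  · exact ph_part15 (by omega) h15
  by_cases h16 : b < 272
  · exact ph_part16 (by omega) h16
  by_cases h17 : b < 288
  · exact ph_part17 (by omega) h17
  by_cases h18 : b < 304
  · exact ph_part18 (by omega) h18
  exact ph_part19 (by omega) hb

end CfsgLib.Fi24P.Triple
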