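import Cfsg.Agent.Lib.Fi24P.Triple.PhaseDefs

/-!
# Kernel checks of the phases, part 0
-/

set_option autoImplicit false
set_option maxRecDepth 100000

namespace CfsgLib.Fi24P.Triple

set_option Elab.async false

theorem ph_block0 : phBlock 0 = true := by decide +kernel

theorem ph_block1 : phBlock 1 = true := by decide +kernel

theorem ph_block2 : phBlock 2 = true := by decide +kernel

theorem ph_block3 : phBlock 3 = true := by decide +kernel

theorem ph_block4 : phBlock 4 = true := by decide +kernel

theorem ph_block5 : phBlock 5 = true := by decide +kernel

theorem ph_block6 : phBlock 6 = true := by decide +kernel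

theorem ph_block7 : phBlock 7 = true := by decide +kernel

theorem ph_block8 : phBlock 8 = true := by decide +kernel

theorem ph_block9 : phBlock 9 = true := by decide +kernel

theorem ph_block10 : phBlock 10 = true := by decide +kernel

theorem ph_block11 : phBlock 11 = true := by decide +kernel

theorem ph_block12 : phBlock 12 = true := by decide +kernel

theorem ph_block13 : phBlock 13 = true := by decide +kernel

theorem ph_block14 : phBlock 14 = true := by decide +kernel

theorem ph_block15 : phBlock 15 = true := by decide +kernel

end CfsgLib.Fi24P.Triple
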