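import Cfsg.Agent.Lib.Fi24P.Triple.PhaseDefs

/-!
# Kernel checks of the phases, part 19
-/

set_option autoImplicit false
set_option maxRecDepth 100000

namespace CfsgLib.Fi24P.Triple

set_option Elab.async false

theorem ph_block304 : phBlock 304 = true := by decide +kernel

theorem ph_block305 : phBlock 305 = true := by decide +kernel

theorem ph_block306 : phBlock 306 = true := by decide +kernel

end CfsgLib.Fi24P.Triple
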