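import Cfsg.Agent.Lib.Fi24P.Triple.PhaseDefs

/-!
# Kernel checks of the phases, part 9
-/

set_option autoImplicit false
set_option maxRecDepth 100000

namespace CfsgLib.Fi24P.Triple

set_option Elab.async false

theorem ph_block144 : phBlock 144 = true := by decide +kernel

theorem ph_block145 : phBlock 145 = true := by decide +kernel

theorem ph_block146 : phBlock 146 = true := by decide +kernel

theorem ph_block147 : phBlock 147 = true := by decide +kernel

theorem ph_block148 : phBlock 148 = true := by decide +kernel

theorem ph_block149 : phBlock 149 = true := by decide +kernel

theorem ph_block150 : phBlock 150 = true := by decide +kernel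

theorem ph_block151 : phBlock 151 = true := by decide +kernel

theorem ph_block152 : phBlock 152 = true := by decide +kernel

theorem ph_block153 : phBlock 153 = true := by decide +kernel

theorem ph_block154 : phBlock 154 = true := by decide +kernel

theorem ph_block155 : phBlock 155 = true := by decide +kernel

theorem ph_block156 : phBlock 156 = true := by decide +kernel

theorem ph_block157 : phBlock 157 = true := by decide +kernel

theorem ph_block158 : phBlock 158 = true := by decide +kernel

theorem ph_block159 : phBlock 159 = true := by decide +kernel

end CfsgLib.Fi24P.Triple
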