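import Cfsg.Agent.Lib.Fi24P.PermDefs
import Cfsg.Agent.Lib.Fi24P.Triple.PhaseData

/-!
# The checks of the phases at one point (generated)
-/

set_option autoImplicit false
set_option maxRecDepth 100000

namespace CfsgLib.Fi24P.Triple

/-- A two bit field of a packed word of phases. -/
noncomputable def pf (q g : ℕ) : ℕ := Nat.land (Nat.shiftRight q (Nat.mul 2 g)) 3

/-- The phase of a generator. -/
noncomputable def ph (g i : ℕ) : ℕ := pf (phase i) g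

/-- Evaluate the argument first: the value of `k x`. -/
noncomputable def force {α : Type} (x : ℕ) (k : ℕ → α) : α :=
  Nat.rec (motive := fun _ => α) (k 0) (fun m _ => k (Nat.succ m)) x

/-- The phase of a word at a point, each step changing the sign of the sum so far. -/
noncomputable def phWalk (w : List ℕ) : ℕ → ℕ → ℕ :=
  List.rec (motive := fun _ => ℕ → ℕ → ℕ) (fun _ t => Nat.mod t 3)
    (fun g _ ih i t => force i fun j => ih (img g j) (Nat.add (pf (phase j) g) (Nat.mul 2 t))) w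

/-- The phase sum along the iterates of the first product. -/
noncomputable def sumV (m : ℕ) : ℕ → ℕ → ℕ :=
  Nat.rec (motive := fun _ => ℕ → ℕ → ℕ) (fun _ t => Nat.mod t 3)
    (fun _ ih i t => force i fun j => ih (colV j) (Nat.add (pf (phase j) 12) (Nat.mul 2 t))) m

/-- The phase sum along the iterates of the square of the second product. -/
noncomputable def sumU (m : ℕ) : ℕ → ℕ → ℕ :=
  Nat.rec (motive := fun _ => ℕ → ℕ → ℕ) (fun i t => Nat.mod (Nat.add t (pf (phase i) 13)) 3)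
    (fun _ ih i t => force i fun j => ih (colU2 j) (Nat.add t (pf (phase j) 14))) m

/-- Involutions and commutations, given the phases at the neighbours. -/
noncomputable def phPairAt (q q0 q1 q2 q3 q4 q5 q6 q7 q8 q9 q10 q11 : ℕ) : Bool :=
    Nat.beq (pf q0 0) (pf q 0) && (
    Nat.beq (pf q1 1) (pf q 1) && (
    Nat.beq (pf q2 2) (pf q 2) && (
    Nat.beq (pf q3 3) (pf q 3) && (
    Nat.beq (pf q4 4) (pf q 4) && (
    Nat.beq (pf q5 5) (pf q 5) && (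
    Nat.beq (pf q6 6) (pf q 6) && (
    Nat.beq (pf q7 7) (pf q 7) && (
    Nat.beq (pf q8 8) (pf q 8) && (
    Nat.beq (pf q9 9) (pf q 9) && (
    Nat.beq (pf q10 10) (pf q 10) && (
    Nat.beq (pf q11 11) (pf q 11) && (
    Nat.beq (Nat.mod (Nat.add (pf q0 2) (pf q 2)) 3) (Nat.mod (Nat.add (pf q2 0) (pf q 0)) 3) && (
    Nat.beq (Nat.mod (Nat.add (pf q0 3) (pf q 3)) 3) (Nat.mod (Nat.add (pf q3 0) (pf q 0)) 3) && (
    Nat.beq (Nat.mod (Nat.add (pf q0 4) (pf q 4)) 3) (Nat.mod (Nat.add (pf q4 0) (pf q 0)) 3) && (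
    Nat.beq (Nat.mod (Nat.add (pf q0 5) (pf q 5)) 3) (Nat.mod (Nat.add (pf q5 0) (pf q 0)) 3) && (
    Nat.beq (Nat.mod (Nat.add (pf q0 6) (pf q 6)) 3) (Nat.mod (Nat.add (pf q6 0) (pf q 0)) 3) && (
    Nat.beq (Nat.mod (Nat.add (pf q0 7) (pf q 7)) 3) (Nat.mod (Nat.add (pf q7 0) (pf q 0)) 3) && (
    Nat.beq (Nat.mod (Nat.add (pf q0 8) (pf q 8)) 3) (Nat.mod (Nat.add (pf q8 0) (pf q 0)) 3) && (
    Nat.beq (Nat.mod (Nat.add (pf q0 9) (pf q 9)) 3) (Nat.mod (Nat.add (pf q9 0) (pf q 0)) 3) && (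
    Nat.beq (Nat.mod (Nat.add (pf q0 10) (pf q 10)) 3) (Nat.mod (Nat.add (pf q10 0) (pf q 0)) 3) && (
    Nat.beq (Nat.mod (Nat.add (pf q0 11) (pf q 11)) 3) (Nat.mod (Nat.add (pf q11 0) (pf q 0)) 3) && (
    Nat.beq (Nat.mod (Nat.add (pf q1 3) (pf q 3)) 3) (Nat.mod (Nat.add (pf q3 1) (pf q 1)) 3) && (
    Nat.beq (Nat.mod (Nat.add (pf q1 4) (pf q 4)) 3) (Nat.mod (Nat.add (pf q4 1) (pf q 1)) 3) && (
    Nat.beq (Nat.mod (Nat.add (pf q1 5) (pf q 5)) 3) (Nat.mod (Nat.add (pf q5 1) (pf q 1)) 3) && (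
    Nat.beq (Nat.mod (Nat.add (pf q1 6) (pf q 6)) 3) (Nat.mod (Nat.add (pf q6 1) (pf q 1)) 3) && (
    Nat.beq (Nat.mod (Nat.add (pf q1 7) (pf q 7)) 3) (Nat.mod (Nat.add (pf q7 1) (pf q 1)) 3) && (
    Nat.beq (Nat.mod (Nat.add (pf q1 8) (pf q 8)) 3) (Nat.mod (Nat.add (pf q8 1) (pf q 1)) 3) && (
    Nat.beq (Nat.mod (Nat.add (pf q1 9) (pf q 9)) 3) (Nat.mod (Nat.add (pf q9 1) (pf q 1)) 3) && (
    Nat.beq (Nat.mod (Nat.add (pf q1 10) (pf q 10)) 3) (Nat.mod (Nat.add (pf q10 1) (pf q 1)) 3) && (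
    Nat.beq (Nat.mod (Nat.add (pf q1 11) (pf q 11)) 3) (Nat.mod (Nat.add (pf q11 1) (pf q 1)) 3) && (
    Nat.beq (Nat.mod (Nat.add (pf q2 4) (pf q 4)) 3) (Nat.mod (Nat.add (pf q4 2) (pf q 2)) 3) && (
    Nat.beq (Nat.mod (Nat.add (pf q2 5) (pf q 5)) 3) (Nat.mod (Nat.add (pf q5 2) (pf q 2)) 3) && (
    Nat.beq (Nat.mod (Nat.add (pf q2 6) (pf q 6)) 3) (Nat.mod (Nat.add (pf q6 2) (pf q 2)) 3) && (
    Nat.beq (Nat.mod (Nat.add (pf q2 7) (pf q 7)) 3) (Nat.mod (Nat.add (pf q7 2) (pf q 2)) 3) && (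
    Nat.beq (Nat.mod (Nat.add (pf q2 8) (pf q 8)) 3) (Nat.mod (Nat.add (pf q8 2) (pf q 2)) 3) && (
    Nat.beq (Nat.mod (Nat.add (pf q2 9) (pf q 9)) 3) (Nat.mod (Nat.add (pf q9 2) (pf q 2)) 3) && (
    Nat.beq (Nat.mod (Nat.add (pf q2 10) (pf q 10)) 3) (Nat.mod (Nat.add (pf q10 2) (pf q 2)) 3) && (
    Nat.beq (Nat.mod (Nat.add (pf q2 11) (pf q 11)) 3) (Nat.mod (Nat.add (pf q11 2) (pf q 2)) 3) && (
    Nat.beq (Nat.mod (Nat.add (pf q3 5) (pf q 5)) 3) (Nat.mod (Nat.add (pf q5 3) (pf q 3)) 3) && (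
    Nat.beq (Nat.mod (Nat.add (pf q3 6) (pf q 6)) 3) (Nat.mod (Nat.add (pf q6 3) (pf q 3)) 3) && (
    Nat.beq (Nat.mod (Nat.add (pf q3 7) (pf q 7)) 3) (Nat.mod (Nat.add (pf q7 3) (pf q 3)) 3) && (
    Nat.beq (Nat.mod (Nat.add (pf q3 8) (pf q 8)) 3) (Nat.mod (Nat.add (pf q8 3) (pf q 3)) 3) && (
    Nat.beq (Nat.mod (Nat.add (pf q3 9) (pf q 9)) 3) (Nat.mod (Nat.add (pf q9 3) (pf q 3)) 3) && (
    Nat.beq (Nat.mod (Nat.add (pf q3 10) (pf q 10)) 3) (Nat.mod (Nat.add (pf q10 3) (pf q 3)) 3) && (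
    Nat.beq (Nat.mod (Nat.add (pf q3 11) (pf q 11)) 3) (Nat.mod (Nat.add (pf q11 3) (pf q 3)) 3) && (
    Nat.beq (Nat.mod (Nat.add (pf q4 6) (pf q 6)) 3) (Nat.mod (Nat.add (pf q6 4) (pf q 4)) 3) && (
    Nat.beq (Nat.mod (Nat.add (pf q4 7) (pf q 7)) 3) (Nat.mod (Nat.add (pf q7 4) (pf q 4)) 3) && (
    Nat.beq (Nat.mod (Nat.add (pf q4 8) (pf q 8)) 3) (Nat.mod (Nat.add (pf q8 4) (pf q 4)) 3) && (
    Nat.beq (Nat.mod (Nat.add (pf q4 9) (pf q 9)) 3) (Nat.mod (Nat.add (pf q9 4) (pf q 4)) 3) && (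
    Nat.beq (Nat.mod (Nat.add (pf q4 10) (pf q 10)) 3) (Nat.mod (Nat.add (pf q10 4) (pf q 4)) 3) && (
    Nat.beq (Nat.mod (Nat.add (pf q4 11) (pf q 11)) 3) (Nat.mod (Nat.add (pf q11 4) (pf q 4)) 3) && (
    Nat.beq (Nat.mod (Nat.add (pf q5 7) (pf q 7)) 3) (Nat.mod (Nat.add (pf q7 5) (pf q 5)) 3) && (
    Nat.beq (Nat.mod (Nat.add (pf q5 8) (pf q 8)) 3) (Nat.mod (Nat.add (pf q8 5) (pf q 5)) 3) && (
    Nat.beq (Nat.mod (Nat.add (pf q5 9) (pf q 9)) 3) (Nat.mod (Nat.add (pf q9 5) (pf q 5)) 3) && (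
    Nat.beq (Nat.mod (Nat.add (pf q5 11) (pf q 11)) 3) (Nat.mod (Nat.add (pf q11 5) (pf q 5)) 3) && (
    Nat.beq (Nat.mod (Nat.add (pf q6 8) (pf q 8)) 3) (Nat.mod (Nat.add (pf q8 6) (pf q 6)) 3) && (
    Nat.beq (Nat.mod (Nat.add (pf q6 9) (pf q 9)) 3) (Nat.mod (Nat.add (pf q9 6) (pf q 6)) 3) && (
    Nat.beq (Nat.mod (Nat.add (pf q6 10) (pf q 10)) 3) (Nat.mod (Nat.add (pf q10 6) (pf q 6)) 3) && (
    Nat.beq (Nat.mod (Nat.add (pf q6 11) (pf q 11)) 3) (Nat.mod (Nat.add (pf q11 6) (pf q 6)) 3) && (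
    Nat.beq (Nat.mod (Nat.add (pf q7 9) (pf q 9)) 3) (Nat.mod (Nat.add (pf q9 7) (pf q 7)) 3) && (
    Nat.beq (Nat.mod (Nat.add (pf q7 10) (pf q 10)) 3) (Nat.mod (Nat.add (pf q10 7) (pf q 7)) 3) && (
    Nat.beq (Nat.mod (Nat.add (pf q7 11) (pf q 11)) 3) (Nat.mod (Nat.add (pf q11 7) (pf q 7)) 3) && (
    Nat.beq (Nat.mod (Nat.add (pf q8 10) (pf q 10)) 3) (Nat.mod (Nat.add (pf q10 8) (pf q 8)) 3) && (
    Nat.beq (Nat.mod (Nat.add (pf q8 11) (pf q 11)) 3) (Nat.mod (Nat.add (pf q11 8) (pf q 8)) 3) && (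
    Nat.beq (Nat.mod (Nat.add (pf q9 10) (pf q 10)) 3) (Nat.mod (Nat.add (pf q10 9) (pf q 9)) 3) && (
    Nat.beq (Nat.mod (Nat.add (pf q9 11) (pf q 11)) 3) (Nat.mod (Nat.add (pf q11 9) (pf q 9)) 3) && (
    true)))))))))))))))))))))))))))))))))))))))))))))))))))))))))))))))))))

/-- Involutions and commutations. -/
noncomputable def phShortAt (r q : ℕ) : Bool :=
  force q fun q => force (phase (fld r 0)) fun v0 =>
    force (phase (fld r 1)) fun v1 =>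
    force (phase (fld r 2)) fun v2 =>
    force (phase (fld r 3)) fun v3 =>
    force (phase (fld r 4)) fun v4 =>
    force (phase (fld r 5)) fun v5 =>
    force (phase (fld r 6)) fun v6 =>
    force (phase (fld r 7)) fun v7 =>
    force (phase (fld r 8)) fun v8 =>
    force (phase (fld r 9)) fun v9 =>
    force (phase (fld r 10)) fun v10 =>
    force (phase (fld r 11)) fun v11 =>
    phPairAt q v0 v1 v2 v3 v4 v5 v6 v7 v8 v9 v10 v11

/-- Braid relations. -/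
noncomputable def phBraidAt (i : ℕ) : Bool :=
    Nat.beq (phWalk [0, 1, 0] i 0) (phWalk [1, 0, 1] i 0) && (
    Nat.beq (phWalk [1, 2, 1] i 0) (phWalk [2, 1, 2] i 0) && (
    Nat.beq (phWalk [2, 3, 2] i 0) (phWalk [3, 2, 3] i 0) && (
    Nat.beq (phWalk [3, 4, 3] i 0) (phWalk [4, 3, 4] i 0) && (
    Nat.beq (phWalk [4, 5, 4] i 0) (phWalk [5, 4, 5] i 0) && (
    Nat.beq (phWalk [5, 6, 5] i 0) (phWalk [6, 5, 6] i 0) && (
    Nat.beq (phWalk [5, 10, 5] i 0) (phWalk [10, 5, 10] i 0) && (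
    Nat.beq (phWalk [6, 7, 6] i 0) (phWalk [7, 6, 7] i 0) && (
    Nat.beq (phWalk [7, 8, 7] i 0) (phWalk [8, 7, 8] i 0) && (
    Nat.beq (phWalk [8, 9, 8] i 0) (phWalk [9, 8, 9] i 0) && (
    Nat.beq (phWalk [10, 11, 10] i 0) (phWalk [11, 10, 11] i 0) && (
    true)))))))))))

/-- The products and their powers. -/
noncomputable def phPowAt (i q : ℕ) : Bool :=
  Nat.beq (pf q 12) (phWalk [2, 3, 4, 5, 6, 7, 10] i 0) &&
  Nat.beq (sumV 9 i 0) (pf q 0) &&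
  Nat.beq (pf q 13) (phWalk [11, 10, 5, 9, 8, 7, 6, 5, 0, 1, 2, 3, 4, 5] i 0) &&
  Nat.beq (pf q 14) (Nat.mod (Nat.add (pf q 13) (pf (phase (colU i)) 13)) 3) &&
  Nat.beq (sumU 8 i 0) 1

/-- All checks of the phases at a point. -/
noncomputable def phChk (i : ℕ) : Bool :=
  force i fun i => phShortAt (row i) (phase i) && phBraidAt i && phPowAt i (phase i)

/-- The checks on a block of points. -/
noncomputable def phBlock (b : ℕ) : Bool :=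
  loop (fun i => !(Nat.blt i 306936) || phChk i) (1000 * b) 1000

end CfsgLib.Fi24P.Triple
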