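import Cfsg.Agent.Lib.Fi24P.Triple.Base

/-!
# Lifts of the generators fixing the first point, and transport of relations

Lifts of transpositions fixing a common point are conjugates of exact lifts times kernel
elements, and those kernel elements agree along commuting and braided pairs.
-/

set_option autoImplicit false
set_option maxRecDepth 100000

namespace CfsgLib.Fi24P.Triple

open CfsgLib.PresCert Cfsg.Spor

/-- An extension with the splitting over the smaller Fischer group. -/
structure Split (M : Type) [Group M] extends Ext M where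
  Φ : Cfsg.Spor.Fi23 →* M
  map_Φ : ∀ z, proj (Φ z) = psi z
  comm_s : ∀ z, s * Φ z = Φ z * s

namespace Split

variable {M : Type} [Group M] (F : Split M)

/-- The lift of a generator other than the second. -/
noncomputable def xS (g : ℕ) : M := if g = 0 then F.s else F.Φ (Fi23P.fiGen (g - 2)) * F.s

theorem map_xS {g : ℕ} (hg : g < 12) (h1 : g ≠ 1) : F.proj (F.xS g) = ftGen g := by
  rw [xS]
  split_ifs with h0
  · rw [h0, F.map_s]
  · rw [map_mul, F.map_Φ, F.map_s, psi_gen (by omega), smallGen, show g - 2 + 2 = g by omega,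
      mul_assoc, eltL_sq, mul_one]

theorem pow_s (m : ℕ) : F.s ^ m = F.s ^ (m % 2) := by
  conv_lhs => rw [← Nat.div_add_mod m 2, pow_add, pow_mul, pow_two, F.sq_s, one_pow, one_mul]

theorem pow_s_comm (z : Cfsg.Spor.Fi23) (m : ℕ) : F.s ^ m * F.Φ z = F.Φ z * F.s ^ m :=
  (Commute.pow_left (show Commute F.s (F.Φ z) from F.comm_s z) m).eq

theorem act_eq : ∀ {w : List ℕ}, hLetters w = true →
    act F.xS w = F.Φ (act Fi23P.fiGen (projW w)) * F.s ^ w.length
  | [], _ => by simp [act_nil, projW]
  | g :: w, h => by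
    obtain ⟨hg, hg1⟩ := hLetters_spec h g List.mem_cons_self
    have hw : hLetters w = true := by
      simp only [hLetters, List.all_cons, Bool.and_eq_true] at h ⊢
      exact h.2
    rw [act_cons, act_eq hw, List.length_cons, pow_succ]
    rcases Nat.eq_zero_or_pos g with rfl | h0
    · have e : projW (0 :: w) = projW w := by simp [projW]
      rw [e, xS, if_pos rfl, mul_assoc]
    · have e : projW (g :: w) = (g - 2) :: projW w := by
        have hb : Nat.beq g 0 = false := by
          rcases hh : Nat.beq g 0 with _ | _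
          · rfl
          · exact absurd (Nat.beq_eq.mp hh) (by omega)
        simp [projW, hb]
      rw [e, act_cons, map_mul, xS, if_neg (by omega)]
      simp only [mul_assoc]
      rw [← mul_assoc (F.s ^ w.length), pow_s_comm, mul_assoc]

theorem proj_act : ∀ {w : List ℕ}, hLetters w = true → F.proj (act F.xS w) = act ftGen w
  | [], _ => by simp [act_nil]
  | g :: w, h => by
    obtain ⟨hg, hg1⟩ := hLetters_spec h g List.mem_cons_self
    have hw : hLetters w = true := by
      simp only [hLetters, List.all_cons, Bool.and_eq_true] at h ⊢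
      exact h.2
    rw [act_cons, act_cons, map_mul, proj_act hw, F.map_xS hg hg1]

theorem sign_act (gen : ℕ → Cfsg.Spor.Fi24) (hgen : ∀ g, signHom (gen g) = -1) :
    ∀ w : List ℕ, signHom (act gen w) = (-1) ^ w.length
  | [] => by simp [act_nil]
  | g :: w => by rw [act_cons, map_mul, sign_act gen hgen w, hgen, List.length_cons, pow_succ]

/-- Words in the generators other than the second are equal when their images are. -/
theorem eq_of_image {u v : List ℕ} (hu : hLetters u = true) (hv : hLetters v = true)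
    (h : act ftGen u = act ftGen v) : act F.xS u = act F.xS v := by
  have hp : u.length % 2 = v.length % 2 := by
    have e := congrArg signHom h
    rw [sign_act _ signHom_gen, sign_act _ signHom_gen, Units.ext_iff] at e
    simp only [Units.val_pow_eq_pow_val, Units.val_neg, Units.val_one] at e
    rw [neg_one_pow_eq_pow_mod_two, neg_one_pow_eq_pow_mod_two (n := v.length)] at e
    rcases Nat.mod_two_eq_zero_or_one u.length with a | a <;>
      rcases Nat.mod_two_eq_zero_or_one v.length with b | b <;> rw [a, b] at e ⊢ <;> norm_num at e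
  rw [act_eq_psi (hLetters_spec hu), act_eq_psi (hLetters_spec hv), pow_eltL u.length,
    pow_eltL v.length, hp] at h
  rw [F.act_eq hu, F.act_eq hv, F.pow_s u.length, F.pow_s v.length, hp,
    psi_injective (mul_right_cancel h)]

theorem rel_of_image {w : List ℕ} (hw : hLetters w = true) (h : act ftGen w = 1) :
    act F.xS w = 1 :=
  F.eq_of_image (v := []) hw rfl h

theorem xS_sq {g : ℕ} (hg : g < 12) (h1 : g ≠ 1) : F.xS g * F.xS g = 1 := by
  have h : hLetters [g, g] = true := by
    interval_cases g <;> first | exact absurd rfl h1 | decide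
  simpa [act_cons, act_nil] using F.rel_of_image h (by simpa [act_cons, act_nil] using ftGen_sq g hg)

theorem xS_inv {g : ℕ} (hg : g < 12) (h1 : g ≠ 1) : (F.xS g)⁻¹ = F.xS g :=
  inv_eq_of_mul_eq_one_right (F.xS_sq hg h1)

theorem xS_comm {g h : ℕ} (hm : (g, h) ∈ commList) (h1 : g ≠ 1) (h2 : h ≠ 1) :
    F.xS g * F.xS h = F.xS h * F.xS g := by
  have hlt : commList.all (fun p => Nat.blt p.1 12 && Nat.blt p.2 12) = true := by decide +kernel
  have hl := List.all_eq_true.1 hlt _ hm
  simp only [Bool.and_eq_true, Nat.blt_eq] at hl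
  have hL : ∀ a b : ℕ, a < 12 → b < 12 → a ≠ 1 → b ≠ 1 → hLetters [a, b] = true := by
    intro a b ha hb ha1 hb1
    simp only [hLetters, List.all_cons, List.all_nil, Bool.and_true, Bool.and_eq_true, Nat.blt_eq,
      Bool.not_eq_true']
    have : ∀ c : ℕ, c ≠ 1 → Nat.beq c 1 = false := fun c hc => by
      rcases hh : Nat.beq c 1 with _ | _
      · rfl
      · exact absurd (Nat.beq_eq.mp hh) hc
    exact ⟨⟨ha, this a ha1⟩, hb, this b hb1⟩
  simpa [act_cons, act_nil] using F.eq_of_image (hL h g hl.2 hl.1 h2 h1) (hL g h hl.1 hl.2 h1 h2)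
    (by simpa [act_cons, act_nil] using gen_comm hm)

theorem xS_braid {g h : ℕ} (hm : (g, h) ∈ braidList) (h1 : g ≠ 1) (h2 : h ≠ 1) :
    F.xS g * F.xS h * F.xS g = F.xS h * F.xS g * F.xS h := by
  have hlt : braidList.all (fun p => Nat.blt p.1 12 && Nat.blt p.2 12) = true := by decide +kernel
  have hl := List.all_eq_true.1 hlt _ hm
  simp only [Bool.and_eq_true, Nat.blt_eq] at hl
  have : ∀ c : ℕ, c ≠ 1 → Nat.beq c 1 = false := fun c hc => by
    rcases hh : Nat.beq c 1 with _ | _
    · rfl
    · exact absurd (Nat.beq_eq.mp hh) hc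
  have hL : hLetters [g, h, g] = true ∧ hLetters [h, g, h] = true := by
    simp only [hLetters, List.all_cons, List.all_nil, Bool.and_true, Bool.and_eq_true, Nat.blt_eq,
      Bool.not_eq_true']
    exact ⟨⟨⟨hl.1, this g h1⟩, ⟨hl.2, this h h2⟩, hl.1, this g h1⟩,
      ⟨⟨hl.2, this h h2⟩, ⟨hl.1, this g h1⟩, hl.2, this h h2⟩⟩
  have := F.eq_of_image hL.1 hL.2 (by simpa [act_cons, act_nil, mul_assoc] using gen_braid hm)
  simpa [act_cons, act_nil, mul_assoc] using this

theorem xS_sign {g : ℕ} (hg : g < 12) (h1 : g ≠ 1) : signHom (F.proj (F.xS g)) = -1 := by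
  rw [F.map_xS hg h1, signHom_gen]

/-- Every element fixing the first point is a lift times a kernel element. -/
theorem lift_cases {m : M} (hm : F.proj m ∈ subgH) :
    ∃ z k, F.proj k = 1 ∧ (m = F.Φ z * k ∨ m = F.Φ z * F.s * k) := by
  obtain ⟨z, h | h⟩ := subgH_cases hm
  · exact ⟨z, (F.Φ z)⁻¹ * m, by rw [map_mul, map_inv, F.map_Φ, h, inv_mul_cancel],
      Or.inl (mul_inv_cancel_left _ _).symm⟩
  · exact ⟨z, (F.Φ z * F.s)⁻¹ * m, by
      rw [map_mul, map_inv, map_mul, F.map_Φ, F.map_s, h, inv_mul_cancel],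
      Or.inr (mul_inv_cancel_left _ _).symm⟩

theorem inj_H {z : Cfsg.Spor.Fi23} (h : F.proj (F.Φ z) = 1) : F.Φ z = 1 := by
  rw [F.map_Φ, ← map_one psi] at h
  rw [psi_injective h, map_one]

/-! ### Transport -/

/-- Two transpositions with kernel factors. -/
theorem pair_pow {p q a b : M} (hp : signHom (F.proj p) = -1) (hq : signHom (F.proj q) = -1)
    (ha : F.proj a = 1) (hb : F.proj b = 1) (hia : F.s * a * F.s = a⁻¹) (n : ℕ) :
    (p * a * (q * b)) ^ n = (p * q) ^ n * (a⁻¹ * b) ^ n := by
  have e : p * a * (q * b) = p * q * (a⁻¹ * b) := by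
    have h := F.odd_conj ha hq
    rw [hia] at h
    have h' : a * q = q * a⁻¹ := by
      have := F.odd_conj (k := a⁻¹) (by rw [map_inv, ha, inv_one]) hq
      rw [this]
      congr 1
      calc a = (a⁻¹)⁻¹ := (inv_inv a).symm
        _ = (F.s * a * F.s)⁻¹ := by rw [hia]
        _ = F.s * a⁻¹ * F.s := by rw [mul_inv_rev, mul_inv_rev, F.s_inv, mul_assoc]
    calc p * a * (q * b) = p * (a * q) * b := by group
      _ = p * q * (a⁻¹ * b) := by rw [h']; group
  rw [e]
  refine Commute.mul_pow ?_ n
  refine F.central _ _ (by rw [map_mul, map_inv, ha, hb, inv_one, one_mul]) ?_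
  rw [map_mul, map_mul, hp, hq]; rfl

/-- A transposition lift fixing the point is an exact lift times an inverted kernel element. -/
theorem transport {x y : M} (hx2 : x * x = 1) (hx : signHom (F.proj x) = -1)
    (hH : F.proj (y⁻¹ * x * y) ∈ subgH) :
    ∃ u k, F.proj k = 1 ∧ F.s * k * F.s = k⁻¹ ∧ y⁻¹ * x * y = F.Φ u * F.s * k ∧
      F.Φ u * F.s * (F.Φ u * F.s) = 1 := by
  obtain ⟨u, k, hk, h | h⟩ := F.lift_cases hH
  · exfalso
    have e := congrArg (fun m => signHom (F.proj m)) h
    simp only [map_mul, map_inv, hx, hk, F.map_Φ, psi_sign, map_one, mul_one] at e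
    rcases Int.units_eq_one_or (signHom (F.proj y)) with a | a <;> rw [a] at e <;>
      exact absurd e (by decide)
  · refine ⟨u, k, hk, ?_, h, ?_⟩
    all_goals
      have hsq : F.Φ u * F.s * k * (F.Φ u * F.s * k) = 1 := by
        rw [← h]
        calc y⁻¹ * x * y * (y⁻¹ * x * y) = y⁻¹ * (x * x) * y := by group
          _ = 1 := by rw [hx2, mul_one, inv_mul_cancel]
      have hp : signHom (F.proj (F.Φ u * F.s)) = -1 := by
        rw [map_mul, map_mul, F.map_Φ, psi_sign, F.map_s, sign_eltL, one_mul]
      have hpp : F.Φ u * F.s * (F.Φ u * F.s) = 1 := by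
        have h2 := congrArg F.proj hsq
        simp only [map_mul, map_one, hk, F.map_Φ, F.map_s, mul_one] at h2
        have e : F.Φ u * F.s * (F.Φ u * F.s) = F.Φ (u * u) := by
          rw [map_mul, mul_assoc, ← mul_assoc F.s, F.comm_s, mul_assoc _ F.s F.s, F.sq_s, mul_one]
        have e2 : psi u * eltL * (psi u * eltL) = psi (u * u) := by
          rw [map_mul, mul_assoc, ← mul_assoc eltL, psi_comm, mul_assoc _ eltL eltL, eltL_sq, mul_one]
        rw [e]
        exact F.inj_H (by rw [F.map_Φ, ← e2, h2])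
    · generalize F.Φ u * F.s = p at hsq hp hpp
      have h3 := F.odd_conj hk hp
      have : F.s * k * F.s * k = 1 := by
        calc F.s * k * F.s * k = p * k * (p * k) := by
              rw [← mul_assoc, h3, mul_assoc (F.s * k * F.s) p p, hpp, mul_one]
          _ = 1 := hsq
      exact eq_inv_of_mul_eq_one_left this
    · exact hpp

/-- A relation of two transported lifts gives the same relation of the kernel factors. -/
theorem transport_rel {x x' y a b : M} {u v : Cfsg.Spor.Fi23} {n : ℕ}
    (hr : (x * x') ^ n = 1) (ha : F.proj a = 1) (hb : F.proj b = 1)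
    (hia : F.s * a * F.s = a⁻¹)
    (ex : y⁻¹ * x * y = F.Φ u * F.s * a) (ex' : y⁻¹ * x' * y = F.Φ v * F.s * b) :
    (a⁻¹ * b) ^ n = 1 := by
  have hp : ∀ u, signHom (F.proj (F.Φ u * F.s)) = -1 := fun u => by
    rw [map_mul, map_mul, F.map_Φ, psi_sign, F.map_s, sign_eltL, one_mul]
  have h1 : (F.Φ u * F.s * a * (F.Φ v * F.s * b)) ^ n = 1 := by
    rw [← ex, ← ex', show y⁻¹ * x * y * (y⁻¹ * x' * y) = y⁻¹ * (x * x') * y⁻¹⁻¹ by group,
      conj_pow, hr]
    group
  rw [F.pair_pow (hp u) (hp v) ha hb hia n] at h1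
  have e : F.Φ u * F.s * (F.Φ v * F.s) = F.Φ (u * v) := by
    rw [map_mul, mul_assoc, ← mul_assoc F.s, F.comm_s, mul_assoc _ F.s F.s, F.sq_s, mul_one]
  rw [e, ← map_pow] at h1
  have h2 := congrArg F.proj h1
  have hab : F.proj ((a⁻¹ * b) ^ n) = 1 := by
    rw [map_pow, map_mul, map_inv, ha, hb, inv_one, one_mul, one_pow]
  rw [map_mul F.proj, hab, mul_one, map_one] at h2
  rwa [F.inj_H h2, one_mul] at h1

end Split

end CfsgLib.Fi24P.Triple
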