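import Mathlib

/-!
# Witness words for the two relations of the stabiliser (generated)
-/

set_option autoImplicit false
set_option maxRecDepth 100000

namespace CfsgLib.Fi24P.Triple

/-- A word equal to the square of the stabilising word. -/
def witSq : List ℕ :=
  [6, 3, 4, 6, 5, 10, 5, 7, 6, 5, 7, 8, 4, 6, 5, 10, 5, 6, 5, 7, 6, 5, 4, 5, 10, 3, 4, 6, 5, 10,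
  5, 7, 6, 5, 7, 8, 4, 6, 5, 10, 5, 6, 5, 7, 6, 5, 4, 5, 10, 6, 3, 10, 5, 4, 5, 6, 7, 5, 6, 5,
  10, 5, 6, 4, 8, 7, 5, 6, 7, 5, 10, 5, 6, 4, 8, 7, 5, 6, 7, 5, 8, 7, 3, 4, 5, 11, 10, 6, 5, 10,
  4, 5, 6, 7, 10, 5, 4, 6, 8, 7, 4, 5, 10, 4, 6, 5, 4, 10, 6, 5, 3, 10, 11, 6, 7, 6, 5, 7, 6, 5,
  7, 3, 11, 7, 4, 11, 5, 4, 10, 6, 11, 5, 10, 3, 4, 5, 6, 5, 11, 10, 3, 11, 4, 5, 10, 11, 6, 5,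
  10, 4, 7, 6, 10, 7, 3, 4, 5, 11, 10, 6, 5, 10, 4, 5, 6, 7, 10, 5, 4, 6, 8, 7, 4, 5, 10, 4, 6,
  5, 4, 10, 6, 5, 3, 10, 11, 6, 7, 6, 11, 5, 3, 10, 5, 4, 6, 10, 5, 4, 9, 7, 8, 9, 8, 9, 6, 11,
  10, 5, 6, 4]

/-- A word equal to the cube of the stabilising word followed by a generator. -/
def witCube : List ℕ :=
  [6, 3, 4, 6, 5, 10, 5, 7, 6, 5, 7, 8, 4, 6, 5, 10, 5, 6, 5, 7, 6, 5, 4, 5, 10, 3, 4, 6, 5, 10,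
  5, 7, 6, 5, 7, 8, 4, 6, 5, 10, 5, 6, 5, 7, 6, 5, 4, 5, 10, 6, 3, 10, 5, 4, 5, 6, 7, 5, 6, 5,
  10, 5, 6, 4, 8, 7, 5, 6, 7, 5, 10, 5, 6, 4, 8, 7, 5, 6, 7, 5, 8, 11, 10, 3, 6, 5, 8, 3, 6, 8,
  7, 4, 10, 9, 5, 11, 4, 11, 10, 9, 7, 6, 7, 6, 11, 5, 10, 6, 5, 11, 10, 7, 11, 5, 4, 3, 4, 5, 6,
  4, 10, 5, 3, 7, 6, 4, 5, 4, 10, 11, 6, 10, 5, 4, 6, 5, 6, 8, 10, 5, 3, 6, 7, 4, 8, 6, 8, 6, 11,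
  6, 10, 5, 4, 11, 5, 6, 3, 7, 5, 4, 7, 5, 9, 11, 10, 5, 11, 6, 10, 5, 4, 9, 3, 7, 6, 5, 4, 5, 8,
  6, 5, 3, 9, 8, 4, 5, 8, 7, 10, 5, 4, 9, 6, 11, 5, 8, 6, 10, 5, 4, 3, 5, 6, 4, 3, 5, 10, 11, 6,
  10, 5, 4, 8, 5, 7, 6, 5, 7, 8, 10, 11, 8, 10, 5, 6, 11, 4, 3, 11, 7, 8, 4, 5, 7, 6, 5, 7, 3,
  10, 4, 5, 6, 7, 4, 8, 5, 3, 10, 7, 6, 5, 4, 3, 11, 7, 3, 4, 5, 8, 10, 6, 5, 4, 3, 8, 5, 7, 6,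
  5, 7, 8, 7, 9, 8, 4, 10, 9, 6, 7, 3, 6, 10, 5, 10, 8, 6, 8, 11, 10, 5, 11, 4, 5, 9, 6, 7, 9,
  11, 4, 10, 9, 4, 11, 5, 11, 9, 10, 6, 4, 8, 9, 8, 5, 7, 6, 5, 7, 8, 11, 3, 7, 6, 9, 10, 7, 10,
  7, 4, 10, 9, 5, 11, 6, 4, 7, 8, 10, 7, 3, 7, 9, 5, 4, 9, 3, 4, 9, 5, 9, 6, 11, 7, 4, 10, 11, 6,
  8, 9, 5, 10, 9, 8, 11, 10, 5, 10, 6, 8, 3, 5, 9, 11, 6, 4, 8, 6, 4, 8, 6, 7, 4, 3, 6, 5, 10, 9,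
  10, 8, 10, 8, 11, 4, 5, 7, 3, 10, 6, 10, 6, 7, 8, 5, 10, 3, 4, 7, 6, 9, 8, 7, 10, 8, 7, 5, 8,
  10, 6, 7, 9, 4, 7, 5, 6, 7, 8, 7, 3, 11, 10, 7, 6, 11, 9, 6, 11, 5, 6, 9, 7, 4, 8, 5, 7, 4, 10,
  9, 5, 9, 7, 10, 9, 10, 5, 4, 6, 5, 6, 9, 10, 9, 10, 11, 7, 3, 4, 3, 6, 9, 5, 10, 8, 11, 6, 5,
  4, 8, 9, 10, 9, 3, 5, 6, 11, 4, 3, 10, 5, 10, 9, 4, 11, 5, 10, 3, 10, 5, 6, 10, 3, 9, 4, 5, 9,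
  4, 10, 6, 5, 7, 6, 5, 7, 8]

end CfsgLib.Fi24P.Triple
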