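import Cfsg.Agent.Lib.Fi24P.Triple.Lifted
import Cfsg.Agent.Lib.Fi24P.Edges
import Cfsg.Agent.Lib.Fi24P.Triple.WitData

/-!
# The trace of the last relator in an extension

The second root is fixed exactly by its transpositions, so the derived edges hold exactly, and
following the last relator shows that its value has order dividing three.
-/

set_option autoImplicit false
set_option maxRecDepth 100000

namespace CfsgLib.Fi24P.Triple

open CfsgLib.PresCert Cfsg.Spor

/-- The nine standard transpositions at the second root. -/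
def rootSet : List ℕ := [2, 3, 4, 5, 6, 7, 8, 10, 11]

theorem rootSet_ok : Split.famOk rootSet = true ∧
    (List.replicate 9 wordV).flatten.all (fun g => rootSet.contains g) = true ∧
    ((List.replicate 9 wordV).flatten.length % 2 == 1) = true := by
  decide +kernel

theorem sq_cube_wit : sameElt (wordTri ++ wordTri) witSq = true ∧
    sameElt (List.replicate 3 (wordTri ++ [3])).flatten witCube = true ∧
    kLetters witSq = true ∧ kLetters witCube = true ∧ (wordTri.length % 2 == 1) = true := by
  decide +kernel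

namespace Lifted

variable {M : Type} [Group M] (L : Lifted M)

theorem gen_fix_base {g : ℕ} (hg : g < 12) (h1 : g ≠ 1) : L.x g • L.base = L.base :=
  L.base_fix (L.x_mem hg h1)

/-- The roots. -/
noncomputable def rootAt (R : ℕ) : L.Pts := act L.x (rootWord R) • L.base

/-- The coset of a state. -/
noncomputable def ptAt (st : ℕ × List ℕ) : L.Pts := act L.x st.2 • L.rootAt st.1

theorem second_comm {w : List ℕ} (h : ∀ g ∈ w, 2 < g ∧ g < 12) :
    L.x 1 * act L.x w = act L.x w * L.x 1 := by
  induction w with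
  | nil => simp [act_nil]
  | cons g w ih =>
    obtain ⟨h1, h2⟩ := h g List.mem_cons_self
    have hc : L.x 1 * L.x g = L.x g * L.x 1 := L.x_comm (by interval_cases g <;> decide)
    rw [act_cons, ← mul_assoc, ih fun a ha => h a (List.mem_cons_of_mem _ ha), mul_assoc, hc,
      mul_assoc]

theorem first_letters {w : List ℕ} (h : ∀ g ∈ w, 2 < g ∧ g < 12) :
    act L.x w • L.rootAt 1 = L.rootAt 1 := by
  have hb : act L.x w • L.base = L.base := L.base_fix (L.act_memH (by
    simp only [hLetters, List.all_eq_true, Bool.and_eq_true, Nat.blt_eq, Bool.not_eq_true']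
    intro g hg
    obtain ⟨h1, h2⟩ := h g hg
    refine ⟨h2, ?_⟩
    interval_cases g <;> rfl))
  rw [rootAt, rootWord, act_cons, act_nil, one_mul, ← mul_smul, ← L.second_comm h, mul_smul, hb]

theorem witWord_fix {S : List (List ℕ)} {y : L.Pts} (hS : ∀ w ∈ S, act L.x w • y = y) :
    ∀ v : List ℕ, act L.x (witWord S v) • y = y
  | [] => by simp [witWord, act_nil]
  | k :: v => by
    have e : witWord S (k :: v) = S.getD k [] ++ witWord S v := by simp [witWord]
    rw [e, act_append, mul_smul]
    have h1 : act L.x (S.getD k []) • y = y := by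
      by_cases hk : k < S.length
      · rw [List.getD_eq_getElem _ _ hk]; exact hS _ (List.getElem_mem hk)
      · rw [List.getD_eq_default _ _ (Nat.le_of_not_lt hk), act_nil, one_smul]
    rw [h1, witWord_fix hS v]

/-- The first generator fixes the second root before it is moved. -/
theorem zero_pre : L.x 0 • act L.x pathTwo • L.base = act L.x pathTwo • L.base := by
  have hb := L.x_braid (g := 0) (h := 1) (by decide)
  have hb2 := L.x_braid (g := 1) (h := 2) (by decide)
  have hc := L.x_comm (g := 0) (h := 2) (by decide)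
  have k2 := L.x_sq (g := 1) (by norm_num)
  have a2 := L.x_sq (g := 2) (by norm_num)
  have e : L.x 0 * act L.x pathTwo = act L.x pathTwo * L.x 2 := by
    simp only [pathTwo, act_cons, act_nil, one_mul]
    calc L.x 0 * (L.x 1 * L.x 2 * L.x 0 * L.x 1)
        = L.x 0 * L.x 1 * (L.x 2 * L.x 0) * L.x 1 := by simp only [mul_assoc]
      _ = L.x 0 * L.x 1 * L.x 0 * (L.x 2 * L.x 1) := by rw [← hc]; simp only [mul_assoc]
      _ = L.x 1 * L.x 0 * (L.x 1 * L.x 2 * L.x 1) := by rw [hb]; simp only [mul_assoc]
      _ = L.x 1 * (L.x 0 * L.x 2) * L.x 1 * L.x 2 := by rw [hb2]; simp only [mul_assoc]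
      _ = _ := by rw [hc]; simp only [mul_assoc]
  rw [← mul_smul, e, mul_smul, L.gen_fix_base (by norm_num) (by norm_num)]

theorem zero_root : L.x 0 • L.rootAt 2 = L.rootAt 2 := by
  have hw := CfsgLib.Fi24P.conj_checks.2.2
  have e : L.rootAt 2 = act L.x wordMove • act L.x pathTwo • L.base := by
    rw [rootAt, rootWord, act_append, mul_smul]; rfl
  have hc : L.x 0 * act L.x wordMove = act L.x wordMove * L.x 0 := by
    rw [L.act_eq hw, L.x_ne (by norm_num), Split.xS, if_pos rfl, ← mul_assoc, L.comm_s, mul_assoc,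
      (Commute.self_pow L.s wordMove.length).eq, mul_assoc]
  rw [e, ← mul_smul, hc, mul_smul, L.zero_pre]

/-- The standard transpositions fix the second root exactly. -/
theorem standard_root {g : ℕ} (hg : g ∈ ([0, 2, 3, 4, 5, 6, 7, 8, 10, 11] : List ℕ)) :
    L.x g • L.rootAt 2 = L.rootAt 2 := by
  by_cases h0 : g = 0
  · rw [h0]; exact L.zero_root
  have hm : g ∈ rootSet := by
    simp only [List.mem_cons, List.not_mem_nil, or_false, rootSet] at hg ⊢
    omega
  set y := act L.x (rootWord 2)
  have hrw : ∀ a ∈ rootWord 2, a < 12 := by decide +kernel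
  have hS : ∀ a ∈ rootSet, a < 12 ∧ a ≠ 1 := by decide
  obtain ⟨k, hk, hki, hu⟩ := L.family (X := L.xS) (y := y) rootSet_ok.1
    (fun a ha => L.xS_sq (hS a ha).1 (hS a ha).2) (fun a ha => L.xS_sign (hS a ha).1 (hS a ha).2)
    (fun a ha => by
      rw [map_mul, map_mul, map_inv, L.proj_word hrw, L.map_xS (hS a ha).1 (hS a ha).2]
      have h2 := CfsgLib.Fi24P.standard_fix (y := a) (by
        simp only [rootSet, List.mem_cons, List.not_mem_nil, or_false] at ha ⊢
        omega)
      rw [root] at h2
      have h3 := inv_smul_eq_iff.mpr h2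
      rw [← mul_smul, ← mul_smul, base0, MulAction.Quotient.smul_coe, smul_eq_mul,
        mul_one, QuotientGroup.eq, mul_one] at h3
      exact inv_mem_iff.1 h3)
    (fun a ha b hb hc => by
      have a2 := L.xS_sq (hS a ha).1 (hS a ha).2
      have b2 := L.xS_sq (hS b hb).1 (hS b hb).2
      have e : L.xS a * L.xS b = L.xS b * L.xS a := by
        simp only [Split.commB, Bool.or_eq_true, List.contains_iff_mem] at hc
        rcases hc with hc | hc
        · exact L.xS_comm hc (hS a ha).2 (hS b hb).2
        · exact (L.xS_comm hc (hS b hb).2 (hS a ha).2).symm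
      rw [pow_two]
      conv_lhs => arg 2; rw [e]
      rw [mul_assoc, ← mul_assoc (L.xS b), b2, one_mul, a2])
    (fun a ha b hb hc => by
      have e : L.xS a * L.xS b * L.xS a = L.xS b * L.xS a * L.xS b := by
        simp only [Split.braidB, Bool.or_eq_true, List.contains_iff_mem] at hc
        rcases hc with hc | hc
        · exact L.xS_braid hc (hS a ha).2 (hS b hb).2
        · exact (L.xS_braid hc (hS b hb).2 (hS a ha).2).symm
      exact Split.cube_one e.symm (L.xS_sq (hS b hb).1 (hS b hb).2) (L.xS_sq (hS a ha).1 (hS a ha).2))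
  obtain ⟨z, hz⟩ := L.family_word hk hki hu (w := (List.replicate 9 wordV).flatten) fun a ha =>
    List.contains_iff_mem.1 (List.all_eq_true.1 rootSet_ok.2.1 a ha)
  rw [if_neg (by have := beq_iff_eq.1 rootSet_ok.2.2; omega)] at hz
  have hV : act L.xS (List.replicate 9 wordV).flatten = L.x 0 := by
    rw [L.x_ne (by norm_num), show L.xS 0 = act L.xS [0] by simp [act_cons, act_nil]]
    refine L.eq_of_image (by decide +kernel) rfl ?_
    have hn : act ftGen relNine = 1 := relData_act (by simp [relData])
    rw [relNine, act_append, act_cons, act_nil, one_mul] at hn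
    rw [act_cons, act_nil, one_mul]
    exact (inv_eq_of_mul_eq_one_right hn).symm.trans (inv_eq_of_mul_eq_one_right eltL_sq)
  rw [hV] at hz
  have hmem : L.Φ z * L.s * k ∈ L.grpH := by
    rw [← hz]
    refine L.mem_of_fix ?_
    rw [mul_smul, mul_smul, inv_smul_eq_iff]
    exact L.zero_root
  have hrange : ∀ v, L.Φ v ∈ L.grpH := L.phi_mem
  have hs : L.s ∈ L.grpH := by
    have := L.x_mem (g := 0) (by norm_num) (by norm_num)
    rwa [L.x_ne (by norm_num), Split.xS, if_pos rfl] at this
  have hk1 : k = 1 := L.ker_inf (by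
    have := mul_mem (inv_mem (mul_mem (hrange z) hs)) hmem
    rwa [inv_mul_cancel_left] at this) hk
  obtain ⟨u, hu'⟩ := hu g hm
  rw [hk1, mul_one, ← L.x_ne (hS g hm).2] at hu'
  have hfix := L.base_fix (m := y⁻¹ * L.x g * y) (by rw [hu']; exact mul_mem (hrange u) hs)
  rw [mul_smul, mul_smul, inv_smul_eq_iff] at hfix
  exact hfix

theorem sub_fix_two {z : Cfsg.Spor.Fi23} (hz : z ∈ Fi23P.subH) :
    L.Φ z • L.rootAt 2 = L.rootAt 2 := by
  have hle : Fi23P.subH ≤ (MulAction.stabilizer M (L.rootAt 2)).comap L.Φ := by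
    refine (Subgroup.closure_le _).2 ?_
    rintro _ ⟨w, hw, rfl⟩
    simp only [Fi23P.sH, List.mem_cons, List.not_mem_nil, or_false] at hw
    have key : ∀ j < 10, j + 2 ∈ ([0, 2, 3, 4, 5, 6, 7, 8, 10, 11] : List ℕ) →
        act Fi23P.fiGen [j] ∈ (MulAction.stabilizer M (L.rootAt 2)).comap L.Φ := by
      intro j hj hm
      have e : L.Φ (Fi23P.fiGen j) = L.x (j + 2) * L.x 0 := by
        rw [L.x_ne (by omega), L.x_ne (by norm_num), Split.xS, Split.xS, if_neg (by omega), if_pos rfl,
          mul_assoc, L.sq_s, mul_one]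
        rfl
      rw [Subgroup.mem_comap, MulAction.mem_stabilizer_iff, act_cons, act_nil, one_mul, e, mul_smul,
        L.zero_root, L.standard_root hm]
    rcases hw with rfl | rfl | rfl | rfl | rfl | rfl | rfl | rfl | rfl <;>
      exact key _ (by norm_num) (by decide)
  exact hle hz

/-- Words agreeing on the first point of the smaller action agree on the other root. -/
theorem second_eq {u v : List ℕ} (hu : hLetters u = true) (hv : hLetters v = true)
    (h : Fi23P.tab.walk 0 (projW u) = Fi23P.tab.walk 0 (projW v)) :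
    act L.x u • L.rootAt 2 = act L.x v • L.rootAt 2 := by
  have hl : ∀ m : ℕ, L.s ^ m • L.rootAt 2 = L.rootAt 2 := by
    intro m
    induction m with
    | zero => rw [pow_zero, one_smul]
    | succ m ih =>
      have h0 := L.zero_root
      rw [L.x_ne (by norm_num), Split.xS, if_pos rfl] at h0
      rw [pow_succ, mul_smul, h0, ih]
  rw [L.act_eq hu, L.act_eq hv, mul_smul, mul_smul, hl, hl]
  set a := act Fi23P.fiGen (projW u)
  set b := act Fi23P.fiGen (projW v)
  have hlt : ∀ {w : List ℕ}, hLetters w = true → ∀ g ∈ projW w, g < Fi23P.tab.ng := by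
    intro w hw g hg
    simp only [projW, List.mem_map, List.mem_filter] at hg
    obtain ⟨k, ⟨hk, -⟩, rfl⟩ := hg
    have := (hLetters_spec hw k hk).1
    show k - 2 < 10
    omega
  have hmem : b⁻¹ * a ∈ Fi23P.subH := by
    rw [Fi23P.subH_eq]
    intro i hi
    rw [map_mul, Equiv.Perm.mul_apply, map_inv, Equiv.Perm.inv_def, Equiv.symm_apply_eq]
    refine Fin.ext ?_
    rw [Fi23P.realised.act_apply (hlt hu), Fi23P.realised.act_apply (hlt hv),
      List.mem_singleton.1 hi]
    exact h
  have := L.sub_fix_two hmem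
  rw [map_mul, map_inv, mul_smul, inv_smul_eq_iff] at this
  exact this

theorem eqState_sound {S : List (List ℕ)} (hS : ∀ w ∈ S, act L.x w • L.rootAt 1 = L.rootAt 1)
    {R : ℕ} {h h2 v : List ℕ} (he : eqState S R h h2 v = true) :
    act L.x h • L.rootAt R = act L.x h2 • L.rootAt R := by
  match R with
  | 0 =>
    simp only [eqState, Bool.and_eq_true] at he
    have e : L.rootAt 0 = L.base := by simp [rootAt, rootWord, act_nil]
    rw [e, L.base_fix (L.act_memH he.1), L.base_fix (L.act_memH he.2)]
  | 1 =>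
    rw [L.eq_of_sameElt he, act_append, mul_smul, L.witWord_fix hS]
  | 2 =>
    simp only [eqState, Bool.and_eq_true, Nat.beq_eq] at he
    exact L.second_eq he.1.1 he.1.2 he.2
  | R + 3 => simp [eqState] at he

/-- A true edge. -/
def EdgeAt (p : (ℕ × List ℕ) × (ℕ × List ℕ)) : Prop := L.x 1 • L.ptAt p.1 = L.ptAt p.2

/-- The edges below a number are true. -/
def EdgesAt (k : ℕ) : Prop := ∀ e < k, L.EdgeAt (edgeData.getD e ((9, []), (9, [])))

theorem edgeAt_swap {a b : ℕ × List ℕ} (h : L.EdgeAt (a, b)) : L.EdgeAt (b, a) := by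
  have h' : L.x 1 • L.ptAt a = L.ptAt b := h
  show L.x 1 • L.ptAt b = L.ptAt a
  rw [← h', ← mul_smul, L.x_sq (g := 1) (by norm_num), one_smul]

theorem side_true {k e : ℕ} (h : L.EdgesAt k) (he : e < k) (f : Bool) :
    L.EdgeAt (edgeSide edgeData e f) := by
  have := h e he
  cases f
  · exact this
  · exact L.edgeAt_swap this

theorem ptAt_append (R : ℕ) (a b : List ℕ) : L.ptAt (R, a ++ b) = act L.x b • L.ptAt (R, a) := by
  simp only [ptAt]; rw [act_append, mul_smul]

theorem useOk_sound {S : List (List ℕ)} (hS : ∀ w ∈ S, act L.x w • L.rootAt 1 = L.rootAt 1) {k : ℕ}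
    (hE : L.EdgesAt k) {st : ℕ × List ℕ} {u : Use} (h : useOk edgeData S k st u = true) :
    L.x 1 • L.ptAt st = L.ptAt (useRes edgeData u) := by
  simp only [useOk, Bool.and_eq_true, Nat.blt_eq, Nat.beq_eq] at h
  obtain ⟨⟨⟨h1, h2⟩, h3⟩, h4⟩ := h
  have ht : L.x 1 • L.ptAt (edgeSide edgeData u.edge u.flip).1 =
      L.ptAt (edgeSide edgeData u.edge u.flip).2 := L.side_true hE h1 u.flip
  have e : L.ptAt st = L.ptAt ((edgeSide edgeData u.edge u.flip).1.1,
      (edgeSide edgeData u.edge u.flip).1.2 ++ u.mid) := by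
    rw [h3]; exact L.eqState_sound hS h4
  rw [e, useRes, L.ptAt_append, L.ptAt_append, ← mul_smul, L.second_comm (kLetters_spec h2), mul_smul,
    ht]

theorem stepOk_sound {S : List (List ℕ)} (hS : ∀ w ∈ S, act L.x w • L.rootAt 1 = L.rootAt 1) {k : ℕ}
    (hE : L.EdgesAt k) {s : Step} (h : stepOk edgeData S k s = true) :
    L.EdgeAt (edgeData.getD k ((9, []), (9, []))) := by
  simp only [stepOk, Bool.and_eq_true, Nat.blt_eq, Bool.or_eq_true, Nat.beq_eq,
    decide_eq_true_eq] at h
  obtain ⟨⟨⟨⟨h1, h2⟩, h3⟩, h4⟩, h5⟩ := h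
  rw [h5]
  set a := (edgeSide edgeData s.edge s.flip).1
  set b := (edgeSide edgeData s.edge s.flip).2
  set r := useRes edgeData s.use
  set c := s.letter
  have hab : L.x 1 • L.ptAt (a.1, a.2 ++ s.mid) = L.ptAt (b.1, b.2 ++ s.mid) := by
    rw [L.ptAt_append, L.ptAt_append, ← mul_smul, L.second_comm (kLetters_spec h2), mul_smul]
    exact congrArg _ (L.side_true hE h1 s.flip)
  have hqr : L.x 1 • L.ptAt (b.1, b.2 ++ s.mid ++ [c]) = L.ptAt r := L.useOk_sound hS hE h4
  have hbr : L.x 1 * L.x c * L.x 1 = L.x c * L.x 1 * L.x c := by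
    rcases h3 with e | e <;> rw [e]
    · exact (L.x_braid (g := 0) (h := 1) (by decide)).symm
    · exact L.x_braid (g := 1) (h := 2) (by decide)
  have hp : L.x 1 • L.ptAt (b.1, b.2 ++ s.mid) = L.ptAt (a.1, a.2 ++ s.mid) := by
    rw [← hab, ← mul_smul, L.x_sq (g := 1) (by norm_num), one_smul]
  show L.x 1 • L.ptAt (a.1, a.2 ++ s.mid ++ [c]) = L.ptAt (r.1, r.2 ++ [c])
  rw [L.ptAt_append a.1 (a.2 ++ s.mid) [c], L.ptAt_append r.1 r.2 [c], act_cons, act_nil, one_mul,
    ← hp, ← mul_smul, ← mul_smul, hbr, mul_smul, mul_smul]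
  rw [L.ptAt_append b.1 (b.2 ++ s.mid) [c], act_cons, act_nil, one_mul] at hqr
  rw [hqr]

theorem start_edges : L.EdgesAt 2 := by
  have h : edgeData.getD 0 ((9, []), (9, [])) = ((0, []), (1, [])) ∧
      edgeData.getD 1 ((9, []), (9, [])) = ((1, [0, 2]), (2, wordMove.reverse)) := by decide +kernel
  intro e he
  obtain rfl | rfl : e = 0 ∨ e = 1 := by omega
  · rw [h.1]
    simp [EdgeAt, ptAt, rootAt, rootWord, act_cons, act_nil]
  · rw [h.2]
    show L.x 1 • L.ptAt (1, [0, 2]) = L.ptAt (2, wordMove.reverse)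
    simp only [ptAt, rootAt, rootWord, act_append, mul_smul]
    rw [act_reverse (ng := 12) (fun a ha => L.x_sq ha) move_lt, inv_smul_smul]
    simp only [act_cons, act_nil, one_mul, mul_smul]

theorem edges_upto {S : List (List ℕ)} (hS : ∀ w ∈ S, act L.x w • L.rootAt 1 = L.rootAt 1) {m n : ℕ}
    (hm : L.EdgesAt m)
    (h : ∀ k, m ≤ k → k < n → stepOk edgeData S k (stepData.getD (k - 2)
      ⟨0, false, [], 0, ⟨0, false, [], []⟩⟩) = true) : L.EdgesAt n := by
  suffices ∀ j, j ≤ n → L.EdgesAt j from this n le_rfl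
  intro j
  induction j with
  | zero => intro _ e he; exact absurd he (Nat.not_lt_zero e)
  | succ j ih =>
    intro hj e he
    rcases Nat.lt_succ_iff_lt_or_eq.1 he with h1 | rfl
    · exact ih (by omega) e h1
    · by_cases h2 : e < m
      · exact hm e h2
      · exact L.stepOk_sound hS (ih (by omega)) (h e (by omega) (by omega))

theorem stabFirst_fix : ∀ w ∈ stabFirst, act L.x w • L.rootAt 1 = L.rootAt 1 := by
  intro w hw
  refine L.first_letters fun g hg => ?_
  have h : stabFirst.all (fun w => w.all fun g => Nat.blt 2 g && Nat.blt g 12) = true := by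
    decide +kernel
  have := List.all_eq_true.1 (List.all_eq_true.1 h w hw) g hg
  simpa only [Bool.and_eq_true, Nat.blt_eq] using this

theorem edges_seven : L.EdgesAt 7 := by
  refine L.edges_upto L.stabFirst_fix L.start_edges fun k h1 h2 => ?_
  have := List.all_eq_true.1 steps_first (k - 2) (List.mem_range.2 (by omega))
  rwa [show k - 2 + 2 = k by omega] at this

theorem tracePath_sound {S : List (List ℕ)} (hS : ∀ w ∈ S, act L.x w • L.rootAt 1 = L.rootAt 1) {k : ℕ}
    (hE : L.EdgesAt k) : ∀ {w : List ℕ} {us : List Use} {st st' : ℕ × List ℕ},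
      tracePath edgeData S k st w us = some st' → act L.x w • L.ptAt st = L.ptAt st'
  | [], us, st, st', h => by
    simp only [tracePath, Option.some.injEq] at h
    rw [h, act_nil, one_smul]
  | g :: w, us, st, st', h => by
    unfold tracePath at h
    rw [act_cons, mul_smul]
    by_cases hg : Nat.beq g 1 = true
    · rw [if_pos hg] at h
      obtain rfl : g = 1 := Nat.beq_eq.mp hg
      rcases us with _ | ⟨u, us⟩
      · simp at h
      · by_cases hu : useOk edgeData S k st u = true
        · simp only [hu, if_true] at h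
          rw [L.useOk_sound hS hE hu]
          exact tracePath_sound hS hE h
        · simp [hu] at h
    · rw [if_neg hg] at h
      by_cases h12 : Nat.blt g 12 = true
      · rw [if_pos h12] at h
        have := tracePath_sound hS hE h
        rw [L.ptAt_append, act_cons, act_nil, one_mul] at this
        exact this
      · rw [if_neg h12] at h
        simp at h

/-- The value of the last relator. -/
noncomputable def zVal : M := act L.x relSeventeen.reverse

theorem zVal_proj : L.proj L.zVal = 1 := by
  have hmem : relSeventeen ∈ relData := by simp [relData]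
  rw [zVal, L.proj_word (fun g hg => relData_lt hmem g (List.mem_reverse.1 hg)),
    act_reverse (ng := 12) ftGen_sq (relData_lt hmem), relData_act hmem, inv_one]

theorem tri_twist : ∃ g : M, act L.x wordTri • L.rootAt 1 = (g * L.zVal * g⁻¹) • L.rootAt 1 := by
  obtain ⟨hA, hB, hA1, hB1, htri, -, hlt, hlt2⟩ := trace_checks
  obtain ⟨⟨ra, a⟩, ea⟩ := Option.isSome_iff_exists.1 hA
  obtain ⟨⟨rb, b⟩, eb⟩ := Option.isSome_iff_exists.1 hB
  rw [ea, Option.getD_some] at hA1 htri
  rw [eb, Option.getD_some] at hB1 htri hlt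
  simp only at hA1 hB1 htri hlt
  subst hA1 hB1
  have h1 := L.tracePath_sound L.stabFirst_fix L.edges_seven ea
  have h2 := L.tracePath_sound L.stabFirst_fix L.edges_seven eb
  have hB' : ∀ g ∈ relSeventeen.reverse.drop traceCut, g < 12 := fun g hg =>
    Nat.blt_eq.mp (List.all_eq_true.1 hlt2 g hg)
  rw [act_reverse (ng := 12) (fun a ha => L.x_sq ha) hB'] at h2
  have hz : L.zVal = act L.x (relSeventeen.reverse.drop traceCut) *
      act L.x (relSeventeen.reverse.take traceCut) := by
    rw [← act_append, List.take_append_drop]; rfl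
  generalize act L.x (relSeventeen.reverse.take traceCut) = A at h1 hz
  generalize act L.x (relSeventeen.reverse.drop traceCut) = B at h2 hz
  refine ⟨(act L.x b)⁻¹ * B⁻¹, ?_⟩
  rw [← htri, act_append, mul_smul,
    act_reverse (ng := 12) (fun a ha => L.x_sq ha) fun g hg => Nat.blt_eq.mp (List.all_eq_true.1 hlt g hg),
    inv_smul_eq_iff]
  have e1 : act L.x a • L.rootAt 1 = L.ptAt (1, a) := rfl
  have e2 : act L.x b • L.rootAt 1 = L.ptAt (1, b) := rfl
  rw [e1, ← h1, hz, ← mul_smul, show act L.x b * ((act L.x b)⁻¹ * B⁻¹ * (B * A) * ((act L.x b)⁻¹ * B⁻¹)⁻¹) =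
    A * (B * act L.x b) by group, mul_smul A, mul_smul B, e2, ← h2, smul_inv_smul]

/-- The value of the last relator is inverted by odd elements and has order dividing three. -/
theorem zVal_spec : L.zVal ^ 3 = 1 ∧ L.s * L.zVal * L.s = L.zVal⁻¹ := by
  obtain ⟨g, hg⟩ := L.tri_twist
  set c := g * L.zVal * g⁻¹ with hc
  have pc : L.proj c = 1 := by rw [hc, map_mul, map_mul, L.zVal_proj, mul_one, ← map_mul,
    mul_inv_cancel, map_one]
  obtain ⟨w1, w2, w3, w4, w5⟩ := sq_cube_wit
  have hlT : ∀ a ∈ wordTri, a < 12 := fun a ha => (hLetters_spec trace_checks.2.2.2.2.2.1 a ha).1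
  set T := act L.x wordTri with hT
  have pT : signHom (L.proj T) = -1 := by
    rw [hT, L.proj_word hlT, Split.sign_act _ signHom_gen]
    exact Odd.neg_one_pow (Nat.odd_iff.2 (beq_iff_eq.1 w5))
  have key : ∀ {v : List ℕ}, kLetters v = true → act L.x v • L.rootAt 1 = L.rootAt 1 :=
    fun h => L.first_letters (kLetters_spec h)
  have ci : L.s * c * L.s = c⁻¹ := by
    have e := L.eq_of_sameElt w1
    rw [act_append, ← hT] at e
    have h1 := key w3
    rw [← e, mul_smul, hg, ← mul_smul, L.odd_conj pc pT, mul_smul, hg, ← mul_smul] at h1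
    have := L.ker_fix (m := L.s * c * L.s * c) (by rw [map_mul, L.map_conj_s pc, pc, mul_one])
      (t := act L.x (rootWord 1)) h1
    exact eq_inv_of_mul_eq_one_left this
  have c3 : c ^ 3 = 1 := by
    set q := L.x 3 * T with hq
    have hx3 : L.x 3 • L.rootAt 1 = L.rootAt 1 := by
      have := L.first_letters (w := [3]) (by decide)
      rwa [act_cons, act_nil, one_mul] at this
    have pq : signHom (L.proj q) = 1 := by
      rw [hq, map_mul, map_mul, pT, L.x_map (by norm_num), signHom_gen]; rfl
    have hs3 : signHom (L.proj (L.x 3)) = -1 := by rw [L.x_map (by norm_num), signHom_gen]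
    have hqr : q • L.rootAt 1 = c⁻¹ • L.rootAt 1 := by
      rw [hq, mul_smul, hg, ← mul_smul, L.odd_conj pc hs3, ci, mul_smul, hx3]
    have hci : ∀ n : ℕ, q ^ n • L.rootAt 1 = (c⁻¹) ^ n • L.rootAt 1 := by
      intro n
      induction n with
      | zero => rw [pow_zero, pow_zero]
      | succ n ih =>
        rw [pow_succ', mul_smul, ih, ← mul_smul, L.central ((c⁻¹) ^ n) q
          (by rw [map_pow, map_inv, pc, inv_one, one_pow]) pq, mul_smul, hqr, ← mul_smul, ← pow_succ]
    have e := L.eq_of_sameElt w2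
    rw [Fi23P.act_flatten, act_append, act_cons, act_nil, one_mul, ← hT, ← hq] at e
    have h1 := key w4
    rw [← e, hci] at h1
    have := L.ker_fix (m := (c⁻¹) ^ 3) (by rw [map_pow, map_inv, pc, inv_one, one_pow])
      (t := act L.x (rootWord 1)) h1
    rwa [inv_pow, inv_eq_one] at this
  have hz : L.zVal = c ∨ L.zVal = c⁻¹ := by
    have e : L.zVal = g⁻¹ * c * g := by rw [hc]; group
    rcases L.sign_cases g with h | h
    · left
      rw [e, mul_assoc, ← L.central c g pc h, inv_mul_cancel_left]
    · right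
      have h' : signHom (L.proj g) = -1 := by
        rw [map_mul, map_mul, L.map_s, sign_eltL] at h
        rcases Int.units_eq_one_or (signHom (L.proj g)) with a | a
        · rw [a] at h; exact absurd h (by decide)
        · exact a
      have h2 := L.flip h' (k := c⁻¹) (by rw [map_inv, pc, inv_one]) (by
        rw [L.conj_inv, ci])
      rw [inv_inv] at h2
      rw [e, mul_assoc, ← h2, inv_mul_cancel_left]
  rcases hz with e | e <;> rw [e]
  · exact ⟨c3, ci⟩
  · refine ⟨by rw [inv_pow, c3, inv_one], ?_⟩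
    rw [L.conj_inv, ci]

end Lifted

end CfsgLib.Fi24P.Triple
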